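import Cfsg.Agent.Lib.ModRep.Princ

/-!
# The principal block when the Sylow subgroup has prime order: explicit form

The theorems `large` and `small` spell out what the proof of `Cfsg.Agent.Lib.ModRep.Princ.main` gives:
a sign function `z` on the non-exceptional characters and the family `μ` of exceptional characters.
-/

set_option autoImplicit false
set_option linter.style.haveILetI false
set_option linter.unusedSectionVars false

namespace Cfsg.Agent.Lib.Ord7920.B0

open Cfsg Module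
open Cfsg.Agent.Lib.Char.Basic Cfsg.Agent.Lib.Char.Ortho Cfsg.Agent.Lib.Char.Complete
open Cfsg.Agent.Lib.Char.Degree Cfsg.Agent.Lib.Char.GenLattice
open Cfsg.Agent.Lib.CharX.Isometry Cfsg.Agent.Lib.CharX.Fixed
open Cfsg.Agent.Lib.ExcP.Core Cfsg.Agent.Lib.ModRep.Struct Cfsg.Agent.Lib.ModRep.Numerics
open Cfsg.Agent.Lib.ExcP.Gram Cfsg.Agent.Lib.ExcP.Inst Cfsg.Agent.Lib.ModRep.Princ
open scoped ComplexConjugate

universe u

variable {G : Type u} [Group G] [Fintype G]

section Abs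

variable [Fintype (IrrCharacter G)]
variable {D : Type*} [Fintype D] (r : Setoid D) (Θ : D → G → ℂ) (e p : ℕ) (hp : 2 ≤ p)
    (hgen : ∀ d, IsGeneralizedCharacter G (Θ d)) (hone : ∀ d, Θ d 1 = 0)
    (hgram1 : ∀ a b, r a b → classInner (Θ a) (Θ b) = (e : ℂ) + 1)
    (hgram0 : ∀ a b, ¬ r a b → classInner (Θ a) (Θ b) = (e : ℂ))
    (hprin : ∀ a, classInner (Θ a) (fun _ : G => (1 : ℂ)) = -1)
    (hclass : ∀ b : D, Nat.card {a : D // r a b} = e) (hcard : Fintype.card D = p - 1)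
    (B : Set (IrrCharacter G)) (R : G → Prop)
    (hB1 : ∀ j, j ∉ B → ∀ d, classInner (Θ d) (j : G → ℂ) = 0)
    (hB2 : ∀ j, j ∈ B → ∃ d, classInner (Θ d) (j : G → ℂ) ≠ 0)
    (hB3 : ∀ j, j ∈ B → ∃ a : ℤ, ∑ d, classInner (Θ d) (j : G → ℂ) =
      (charDegree (j : G → ℂ) : ℂ) - (p : ℂ) * (a : ℂ))
    (hreg : ∀ d y, R y → Θ d y = 0)
    (hcount : ∀ S : Finset (IrrCharacter G), (∀ χ, χ ∈ B → ∃ c : IrrCharacter G → ℤ, ∀ g, R g →
      (χ : G → ℂ) g = ∑ ψ ∈ S, (c ψ : ℂ) * (ψ : G → ℂ) g) → e ≤ S.card)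

include hp hgen hone hgram1 hgram0 hprin hclass hcard hB1 hB2 hB3 hreg hcount

open scoped Classical in
/-- The case of several exceptional characters. -/
theorem large_abs (he : e < p - 1) :
    ∃ (ε : ℤ) (t D₀ : ℕ) (z : IrrCharacter G → ℤ) (μ : Fin t → IrrCharacter G),
      (ε = 1 ∨ ε = -1) ∧ t * e = p - 1 ∧ 2 ≤ t ∧ (∀ j, z j ≠ 0 → z j = 1 ∨ z j = -1) ∧
      (Finset.univ.filter (fun j => z j ≠ 0)).card = e ∧ z (oneIrr G) = -1 ∧
      (∀ j, z j ≠ 0 → (p : ℤ) ∣ (charDegree (j : G → ℂ) : ℤ) + z j) ∧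
      (p : ℤ) ∣ (D₀ : ℤ) - e * ε ∧ Function.Injective μ ∧ (∀ i, z (μ i) = 0) ∧
      (∀ i, charDegree (μ i : G → ℂ) = D₀) ∧
      (∀ i g, R g → (∑ j, (z j : ℂ) * (j : G → ℂ) g) + (ε : ℂ) * (μ i : G → ℂ) g = 0) ∧
      (∀ d (j : IrrCharacter G), (∀ k, μ k ≠ j) → classInner (Θ d) (j : G → ℂ) = (z j : ℂ)) := by
  classical
  obtain ⟨εz, b, t, D₀, z, μ, A, hεz, hte, ht2, hnorm, hz1, hzdeg, hD₀, hμinj, hzμ, hdegμ, hΘ1, hΘ2,
    hAval, hAin1, hAin2⟩ := core' r Θ e p hp hgen hone hgram1 hgram0 hprin hclass hcard he (by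
      intro j
      by_cases hj : j ∈ B
      · right
        exact hB3 j hj
      · left
        exact hB1 j hj)
  have hε0 : εz ≠ 0 := by rcases hεz with h | h <;> rw [h] <;> norm_num
  have hεC : (εz : ℂ) ≠ 0 := by exact_mod_cast hε0
  have he0 : 0 < e := by
    rcases Nat.eq_zero_or_pos e with h | h
    · rw [h, mul_zero] at hte
      omega
    · exact h
  let i₀ : Fin t := ⟨0, by omega⟩
  let i₁ : Fin t := ⟨1, by omega⟩
  have hi01 : i₀ ≠ i₁ := by
    intro h
    have := congrArg Fin.val h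
    simp [i₀, i₁] at this
  let N₀ : Finset (IrrCharacter G) := Finset.univ.filter (fun j => z j ≠ 0)
  let R₀ : Finset (IrrCharacter G) := Finset.univ.image μ
  have hmemN : ∀ j, j ∈ N₀ ↔ z j ≠ 0 := fun j => by simp [N₀]
  have hmemR : ∀ j, j ∈ R₀ ↔ ∃ k, μ k = j := fun j => by simp [R₀]
  have hdisj : Disjoint N₀ R₀ := by
    rw [Finset.disjoint_left]
    intro j hj hj'
    obtain ⟨k, rfl⟩ := (hmemR j).mp hj'
    exact (hmemN _).mp hj (hzμ k)
  have hB : ∀ j, j ∈ B ↔ j ∈ N₀ ∪ R₀ := by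
    intro j
    rw [Finset.mem_union]
    constructor
    · intro hj
      by_cases hjR : j ∈ R₀
      · exact Or.inr hjR
      left
      obtain ⟨d, hd⟩ := hB2 j hj
      obtain ⟨i, hi⟩ := hΘ1 d
      rw [hi, hAin1 i j (fun k hk => hjR ((hmemR j).mpr ⟨k, hk⟩))] at hd
      rw [hmemN]
      intro h0
      apply hd
      rw [h0]
      simp
    · rintro (hj | hj)
      · by_contra hjB
        have hjz := (hmemN j).mp hj
        have hjR : ∀ k, μ k ≠ j := by
          intro k hk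
          apply hjz
          rw [← hk]
          exact hzμ k
        obtain ⟨d, hd⟩ := hΘ2 i₀
        have h1 := hB1 j hjB d
        rw [hd, hAin1 i₀ j hjR] at h1
        exact hjz (by exact_mod_cast h1)
      · obtain ⟨k, rfl⟩ := (hmemR j).mp hj
        by_contra hjB
        obtain ⟨k', hk'⟩ : ∃ k', k' ≠ k := by
          by_cases h : k = i₀
          · exact ⟨i₁, fun h' => hi01 (h.symm.trans h'.symm)⟩
          · exact ⟨i₀, fun h' => h h'.symm⟩
        obtain ⟨d, hd⟩ := hΘ2 k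
        obtain ⟨d', hd'⟩ := hΘ2 k'
        have h1 := hB1 _ hjB d
        have h2 := hB1 _ hjB d'
        rw [hd, hAin2, if_pos rfl] at h1
        rw [hd', hAin2, if_neg hk'] at h2
        have h3 : b + εz * 1 = 0 := by exact_mod_cast h1
        have h4 : b + εz * 0 = 0 := by exact_mod_cast h2
        apply hε0
        linarith
  -- regular elements
  have hregA : ∀ i g, R g → A i g = 0 := by
    intro i g hg
    obtain ⟨d, hd⟩ := hΘ2 i
    rw [← hd]
    exact hreg d g hg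
  have hμreg : ∀ i g, R g → (μ i : G → ℂ) g = (μ i₀ : G → ℂ) g := by
    intro i g hg
    have h1 := hregA i g hg
    have h2 := hregA i₀ g hg
    rw [hAval] at h1 h2
    have h3 : (εz : ℂ) * ((μ i : G → ℂ) g - (μ i₀ : G → ℂ) g) = 0 := by
      linear_combination h1 - h2
    exact sub_eq_zero.mp ((mul_eq_zero.mp h3).resolve_left hεC)
  have hrel : ∀ g, R g → (∑ j, (z j : ℂ) * (j : G → ℂ) g) +
      ((t : ℂ) * (b : ℂ) + (εz : ℂ)) * (μ i₀ : G → ℂ) g = 0 := by
    intro g hg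
    have h1 := hregA i₀ g hg
    rw [hAval] at h1
    have h2 : ∑ k, (μ k : G → ℂ) g = (t : ℂ) * (μ i₀ : G → ℂ) g := by
      rw [Finset.sum_congr rfl (fun k _ => hμreg k g hg), Finset.sum_const, Finset.card_univ,
        Fintype.card_fin, nsmul_eq_mul]
    rw [h2] at h1
    linear_combination h1
  set one₀ : IrrCharacter G := oneIrr G with hone₀
  have hone_val : ∀ g, (one₀ : G → ℂ) g = 1 := fun g => rfl
  have honeN : one₀ ∈ N₀ := by
    rw [hmemN, hz1]
    norm_num
  -- the spanning set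
  let S : Finset (IrrCharacter G) := insert (μ i₀) (N₀.erase one₀)
  have hμ₀notin : μ i₀ ∉ N₀.erase one₀ := by
    intro h
    exact (hmemN _).mp (Finset.mem_of_mem_erase h) (hzμ i₀)
  have hSspan : ∀ χ, χ ∈ B → ∃ c : IrrCharacter G → ℤ, ∀ g, R g →
      (χ : G → ℂ) g = ∑ ψ ∈ S, (c ψ : ℂ) * (ψ : G → ℂ) g := by
    intro χ hχ
    by_cases hχS : χ ∈ S
    · exact ⟨fun ψ => if ψ = χ then 1 else 0, fun g _ => sum_single hχS g⟩
    by_cases hχ1 : χ = one₀
    · subst hχ1
      refine ⟨fun ψ => if ψ = μ i₀ then (t : ℤ) * b + εz else z ψ, fun g hg => ?_⟩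
      rw [Finset.sum_insert hμ₀notin]
      beta_reduce
      rw [if_pos rfl]
      have h1 : ∑ ψ ∈ N₀.erase one₀, (((if ψ = μ i₀ then (t : ℤ) * b + εz else z ψ : ℤ)) : ℂ) *
          (ψ : G → ℂ) g = ∑ ψ ∈ N₀.erase one₀, (z ψ : ℂ) * (ψ : G → ℂ) g := by
        refine Finset.sum_congr rfl fun ψ hψ => ?_
        rw [if_neg]
        rintro rfl
        exact hμ₀notin hψ
      rw [h1]
      have h2 := hrel g hg
      have h3 : ∑ j, (z j : ℂ) * (j : G → ℂ) g = ∑ j ∈ N₀, (z j : ℂ) * (j : G → ℂ) g := by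
        symm
        apply Finset.sum_subset (Finset.subset_univ _)
        intro j _ hj
        have : z j = 0 := by
          by_contra h
          exact hj ((hmemN j).mpr h)
        rw [this]
        simp
      have h4 : ∑ j ∈ N₀, (z j : ℂ) * (j : G → ℂ) g =
          (z one₀ : ℂ) * (one₀ : G → ℂ) g + ∑ j ∈ N₀.erase one₀, (z j : ℂ) * (j : G → ℂ) g :=
        (Finset.add_sum_erase N₀ _ honeN).symm
      rw [h3, h4, hz1, hone_val] at h2
      rw [hone_val]
      push_cast at h2 ⊢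
      linear_combination -h2
    · have hχN : χ ∉ N₀ := by
        intro h
        apply hχS
        exact Finset.mem_insert_of_mem (Finset.mem_erase.mpr ⟨hχ1, h⟩)
      have hχR := ((Finset.mem_union.mp ((hB χ).mp hχ))).resolve_left hχN
      obtain ⟨k, rfl⟩ := (hmemR χ).mp hχR
      have h1 : μ i₀ ∈ S := Finset.mem_insert_self _ _
      refine ⟨fun ψ => if ψ = μ i₀ then 1 else 0, fun g hg => ?_⟩
      rw [hμreg k g hg]
      exact sum_single h1 g
  have hS_le : e ≤ S.card := hcount S hSspan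
  have hScard : S.card = N₀.card := by
    rw [Finset.card_insert_of_notMem hμ₀notin, Finset.card_erase_of_mem honeN]
    have : 0 < N₀.card := Finset.card_pos.mpr ⟨_, honeN⟩
    omega
  have hNsq : ((N₀.card : ℕ) : ℤ) ≤ ∑ j, z j ^ 2 := card_filter_le_sum_sq z
  have hmain := arith_aux εz b t N₀.card (∑ j, z j ^ 2) e hεz (by exact_mod_cast ht2) hNsq
    (by rw [hScard] at hS_le; exact_mod_cast hS_le) hnorm
  obtain ⟨hs, hn, hb⟩ := hmain
  have hNe : N₀.card = e := by exact_mod_cast hn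
  have hpm : ∀ j, z j ≠ 0 → z j = 1 ∨ z j = -1 :=
    eq_one_of_card_eq z (by
      show ((N₀.card : ℕ) : ℤ) = _
      rw [hn, hs])
  have hpZ : ((p : ℕ) : ℤ) = (t : ℤ) * e + 1 := by
    have h1 : p = t * e + 1 := by omega
    rw [h1]
    push_cast
    ring
  -- the sign
  have hε' : (t : ℤ) * b + εz = 1 ∨ (t : ℤ) * b + εz = -1 := by
    rcases hb with h0 | ⟨ht, hbε⟩
    · rw [h0]
      rcases hεz with h1 | h1 <;> rw [h1] <;> simp
    · rw [ht, hbε]
      rcases hεz with h1 | h1 <;> rw [h1] <;> simp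
  have hD₀' : (p : ℤ) ∣ (D₀ : ℤ) - e * ((t : ℤ) * b + εz) := by
    obtain ⟨c, hc⟩ := hD₀
    rcases hb with h0 | ⟨ht, hbε⟩
    · rw [h0] at hc ⊢
      exact ⟨c, by linarith⟩
    · rw [ht, hbε]
      rw [hbε] at hc
      rw [ht] at hpZ
      refine ⟨c + εz, ?_⟩
      push_cast at hpZ ⊢
      linear_combination hc - εz * hpZ
  refine ⟨(t : ℤ) * b + εz, t, D₀, z, μ, hε', hte, ht2, hpm, hNe, hz1, hzdeg, hD₀', hμinj, hzμ, hdegμ,
    ?_, ?_⟩
  · intro i g hg
    have h1 := hrel g hg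
    rw [hμreg i g hg]
    push_cast
    exact h1
  · intro d j hj
    obtain ⟨i, hi⟩ := hΘ1 d
    rw [hi]
    exact hAin1 i j hj

open scoped Classical in
/-- The case of one class. -/
theorem small_abs (he : ¬ e < p - 1) :
    ∃ a : IrrCharacter G → ℤ, e = p - 1 ∧ (∀ j, a j ≠ 0 → a j = 1 ∨ a j = -1) ∧
      (Finset.univ.filter (fun j => a j ≠ 0)).card = e + 1 ∧ a (oneIrr G) = -1 ∧
      (∀ j, a j ≠ 0 → (p : ℤ) ∣ (charDegree (j : G → ℂ) : ℤ) + a j) ∧
      (∀ g, R g → ∑ j, (a j : ℂ) * (j : G → ℂ) g = 0) ∧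
      (∀ d (j : IrrCharacter G), classInner (Θ d) (j : G → ℂ) = (a j : ℂ)) := by
  classical
  have hDne : Nonempty D := by
    rw [← Fintype.card_pos_iff, hcard]
    omega
  obtain ⟨d₀⟩ := hDne
  have heq : e = p - 1 := by
    have h1 := hclass d₀
    have h2 : Nat.card {a : D // r a d₀} ≤ Fintype.card D := by
      rw [Nat.card_eq_fintype_card]
      exact Fintype.card_subtype_le _
    omega
  have hall : ∀ a : D, r a d₀ := by
    intro a
    by_contra hcon
    have h1 := hclass d₀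
    rw [Nat.card_eq_fintype_card, Fintype.card_subtype] at h1
    have h2 : (Finset.univ.filter (fun a => r a d₀)) ⊂ Finset.univ := by
      refine Finset.ssubset_univ_iff.mpr ?_
      intro h
      have h3 := Finset.mem_univ a
      rw [← h] at h3
      exact hcon (Finset.mem_filter.mp h3).2
    have h3 := Finset.card_lt_card h2
    rw [h1, Finset.card_univ, hcard] at h3
    omega
  have hinv : ∀ a, Θ a = Θ d₀ := by
    intro a
    have hab := hall a
    have h0 : classInner (Θ a - Θ d₀) (Θ a - Θ d₀) = 0 := by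
      rw [classInner_sub_left, classInner_sub_right, classInner_sub_right, hgram1 _ _ (r.refl a),
        hgram1 _ _ hab, hgram1 _ _ (r.symm hab), hgram1 _ _ (r.refl d₀)]
      ring
    rw [classInner_self_eq_zero_iff] at h0
    exact sub_eq_zero.mp h0
  obtain ⟨a, ha⟩ := Cfsg.Agent.Lib.CharX.Isometry.exists_int_combination (hgen d₀)
  have hco : ∀ j : IrrCharacter G, classInner (Θ d₀) (j : G → ℂ) = (a j : ℂ) := by
    intro j
    rw [ha]
    exact classInner_of_int_combination a j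
  have hsq : ∑ j, a j ^ 2 = (e : ℤ) + 1 := by
    have h1 := hgram1 d₀ d₀ (r.refl _)
    rw [ha, classInner_self_of_int_combination] at h1
    exact_mod_cast h1
  set one₀ : IrrCharacter G := oneIrr G with hone₀
  have hone_val : ∀ g, (one₀ : G → ℂ) g = 1 := fun g => rfl
  have ha1 : a one₀ = -1 := by
    have h1 := hco one₀
    have h2 : classInner (Θ d₀) ((one₀ : IrrCharacter G) : G → ℂ) = -1 := hprin d₀
    rw [h2] at h1
    have h3 : ((-1 : ℤ) : ℂ) = (a one₀ : ℂ) := by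
      rw [← h1]
      simp
    exact_mod_cast h3.symm
  let N₀ : Finset (IrrCharacter G) := Finset.univ.filter (fun j => a j ≠ 0)
  have hmemN : ∀ j, j ∈ N₀ ↔ a j ≠ 0 := fun j => by simp [N₀]
  have hB : ∀ j, j ∈ B ↔ j ∈ N₀ := by
    intro j
    rw [hmemN]
    constructor
    · intro hj
      obtain ⟨d, hd⟩ := hB2 j hj
      rw [hinv d, hco] at hd
      intro h0
      apply hd
      rw [h0]
      simp
    · intro hj
      by_contra hjB
      have h1 := hB1 j hjB d₀
      rw [hco] at h1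
      exact hj (by exact_mod_cast h1)
  have honeN : one₀ ∈ N₀ := by
    rw [hmemN, ha1]
    norm_num
  let S : Finset (IrrCharacter G) := N₀.erase one₀
  have hSspan : ∀ χ, χ ∈ B → ∃ c : IrrCharacter G → ℤ, ∀ g, R g →
      (χ : G → ℂ) g = ∑ ψ ∈ S, (c ψ : ℂ) * (ψ : G → ℂ) g := by
    intro χ hχ
    by_cases hχ1 : χ = one₀
    · subst hχ1
      refine ⟨a, fun g hg => ?_⟩
      have h1 := hreg d₀ g hg
      rw [ha, Finset.sum_apply] at h1
      have h3 : ∑ j, (a j • (j : G → ℂ)) g = ∑ j ∈ N₀, (a j : ℂ) * (j : G → ℂ) g := by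
        symm
        have h5 : ∑ j, (a j • (j : G → ℂ)) g = ∑ j, (a j : ℂ) * (j : G → ℂ) g := by
          refine Finset.sum_congr rfl fun j _ => ?_
          rw [Pi.smul_apply, zsmul_eq_mul]
        rw [h5]
        apply Finset.sum_subset (Finset.subset_univ _)
        intro j _ hj
        have : a j = 0 := by
          by_contra h
          exact hj ((hmemN j).mpr h)
        rw [this]
        simp
      have h4 : ∑ j ∈ N₀, (a j : ℂ) * (j : G → ℂ) g =
          (a one₀ : ℂ) * (one₀ : G → ℂ) g + ∑ j ∈ N₀.erase one₀, (a j : ℂ) * (j : G → ℂ) g :=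
        (Finset.add_sum_erase N₀ _ honeN).symm
      rw [h3, h4, ha1, hone_val] at h1
      rw [hone_val]
      push_cast at h1
      linear_combination -h1
    · have h1 : χ ∈ S := Finset.mem_erase.mpr ⟨hχ1, (hB χ).mp hχ⟩
      exact ⟨fun ψ => if ψ = χ then 1 else 0, fun g _ => sum_single h1 g⟩
  have hS_le : e ≤ S.card := hcount S hSspan
  have hScard : S.card + 1 = N₀.card := by
    rw [Finset.card_erase_of_mem honeN]
    have : 0 < N₀.card := Finset.card_pos.mpr ⟨_, honeN⟩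
    omega
  have hNsq : ((N₀.card : ℕ) : ℤ) ≤ ∑ j, a j ^ 2 := card_filter_le_sum_sq a
  have hNe : N₀.card = e + 1 := by
    rw [hsq] at hNsq
    have : N₀.card ≤ e + 1 := by exact_mod_cast hNsq
    omega
  have hpm : ∀ j, a j ≠ 0 → a j = 1 ∨ a j = -1 :=
    eq_one_of_card_eq a (by
      show ((N₀.card : ℕ) : ℤ) = _
      rw [hNe, hsq]
      push_cast
      ring)
  have h3 : ((p - 1 : ℕ) : ℤ) = (p : ℤ) - 1 := by
    rw [Nat.cast_sub (by omega)]
    simp
  refine ⟨a, heq, hpm, hNe, ha1, ?_, ?_, ?_⟩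
  · intro χ hχ0
    have hχ : χ ∈ B := (hB χ).mpr ((hmemN χ).mpr hχ0)
    obtain ⟨c, hc⟩ := hB3 χ hχ
    simp only [hinv, hco] at hc
    rw [Finset.sum_const, Finset.card_univ, hcard, nsmul_eq_mul] at hc
    have h2 : (((p - 1 : ℕ) : ℤ) * a χ : ℤ) = (charDegree (χ : G → ℂ) : ℤ) - (p : ℤ) * c := by
      exact_mod_cast hc
    rw [h3] at h2
    exact ⟨a χ + c, by linarith⟩
  · intro g hg
    have h1 := hreg d₀ g hg
    rw [ha, Finset.sum_apply] at h1
    rw [← h1]
    refine Finset.sum_congr rfl fun j _ => ?_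
    rw [Pi.smul_apply, zsmul_eq_mul]
  · intro d j
    rw [hinv d, hco]

end Abs

section Main

variable {p : ℕ} [hp : Fact p.Prime] {P : Subgroup G} {M : Ideal AlgInt} [Fintype (IrrCharacter G)]

open scoped Classical in
/-- The case of several exceptional characters: explicit form. -/
theorem large (hM : IsPModular p M) (hP : Nat.card P = p) (hp2 : ¬ p ^ 2 ∣ Nat.card G) (e : ℕ)
    (hN : Nat.card (Nn P) = e * Nat.card (Cn P)) (he : e < p - 1) :
    ∃ (ε : ℤ) (t D₀ : ℕ) (z : IrrCharacter G → ℤ) (μ : Fin t → IrrCharacter G),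
      (ε = 1 ∨ ε = -1) ∧ t * e = p - 1 ∧ 2 ≤ t ∧ (∀ j, z j ≠ 0 → z j = 1 ∨ z j = -1) ∧
      (Finset.univ.filter (fun j => z j ≠ 0)).card = e ∧ z (oneIrr G) = -1 ∧
      (∀ j, z j ≠ 0 → (p : ℤ) ∣ (charDegree (j : G → ℂ) : ℤ) + z j) ∧
      (p : ℤ) ∣ (D₀ : ℤ) - e * ε ∧ Function.Injective μ ∧ (∀ i, z (μ i) = 0) ∧
      (∀ i, charDegree (μ i : G → ℂ) = D₀) ∧
      (∀ i g, ¬ p ∣ orderOf g → (∑ j, (z j : ℂ) * (j : G → ℂ) g) + (ε : ℂ) * (μ i : G → ℂ) g = 0) ∧
      (∀ κ, IsD P p κ → ∀ j : IrrCharacter G, (∀ k, μ k ≠ j) →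
        classInner (Th P κ) (j : G → ℂ) = (z j : ℂ)) := by
  classical
  haveI := Cfsg.Agent.Lib.Blocks.Local.isPrime_of_pModular hM
  letI : Fintype P := Fintype.ofFinite _
  letI : Fintype (Cn P) := Fintype.ofFinite _
  letI : Fintype (Nn P) := Fintype.ofFinite _
  haveI := finite_DD (p := p) (P := P) hP hp2
  letI : Fintype (DD P p) := Fintype.ofFinite _
  obtain ⟨x, hxP, hx1⟩ : ∃ x ∈ P, x ≠ 1 := by
    have h1 : P ≠ ⊥ := by
      rintro rfl
      rw [Subgroup.card_bot] at hP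
      exact hp.out.one_lt.ne hP
    obtain ⟨x, hx⟩ := Subgroup.ne_bot_iff_exists_ne_one.mp h1
    exact ⟨x.1, x.2, fun h => hx (Subtype.ext h)⟩
  have hPx : P = Subgroup.zpowers x := eq_zpowers_of_mem hP hxP hx1
  have hx : orderOf x = p := by
    rw [← Nat.card_zpowers, ← hPx, hP]
  have hrel : (Subgroup.centralizer ((Subgroup.zpowers x : Subgroup G) : Set G)).relIndex
      (Subgroup.normalizer ((Subgroup.zpowers x : Subgroup G) : Set G)) = e := by
    rw [← hPx]
    have hle : Cn P ≤ Nn P := Subgroup.centralizer_le_normalizer _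
    have h1 := Subgroup.card_mul_index ((Cn P).subgroupOf (Nn P))
    have h2 : Nat.card ((Cn P).subgroupOf (Nn P)) = Nat.card (Cn P) :=
      Nat.card_congr (Subgroup.subgroupOfEquivOfLe hle).toEquiv
    rw [h2, hN] at h1
    have h3 : 0 < Nat.card (Cn P) := Nat.card_pos
    have h4 : ((Cn P).subgroupOf (Nn P)).index = e := by
      apply Nat.eq_of_mul_eq_mul_left h3
      rw [h1, mul_comm]
    exact h4
  obtain ⟨ε, t, D₀, z, μ, h1, h2, h3, h4, h5, h6, h7, h8, h9, h10, h11, h12, h13⟩ :=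
    large_abs (rr P p) (fun d => Th P d.1) e p hp.out.two_le (fun d => isGen_Th _)
    (fun d => Th_one _) (gram_same hP hp2 hN) (gram_diff hP hp2 hN)
    (fun a => classInner_Th_one a.2.2) (card_class hP hp2 hN)
    (by rw [← Nat.card_eq_fintype_card, card_DD hP hp2]) (principalBlock M G)
    (fun g => ¬ p ∣ orderOf g)
    (by
      intro j hj d
      exact (Cfsg.Agent.Lib.ModRep.Prime.inner_alternative hP hp2 hM d.2.1 j).2 hj)
    (by
      intro j hj
      by_contra hall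
      push Not at hall
      obtain ⟨a, ha⟩ := sum_Ak hP hp2 j
      have h1 : ∑ d : DD P p, Ak hP d.1 (j : G → ℂ) = 0 := by
        refine Finset.sum_eq_zero fun d _ => ?_
        rw [← (Cfsg.Agent.Lib.ModRep.Prime.inner_alternative hP hp2 hM d.2.1 j).1 hj]
        exact hall d
      rw [h1] at ha
      have h2 : (charDegree (j : G → ℂ) : ℤ) = (p : ℤ) * a := by
        have h3 : (charDegree (j : G → ℂ) : ℂ) = (p : ℂ) * (a : ℂ) := by
          linear_combination -ha
        exact_mod_cast h3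
      apply Cfsg.Agent.Lib.ModRep.Prime.not_dvd_degree hM hp2 hx hj
      have h4 : (p : ℤ) ∣ (charDegree (j : G → ℂ) : ℤ) := ⟨a, h2⟩
      exact_mod_cast h4)
    (by
      intro j hj
      obtain ⟨a, ha⟩ := sum_Ak hP hp2 j
      refine ⟨a, ?_⟩
      rw [← ha]
      exact Finset.sum_congr rfl fun d _ => (Cfsg.Agent.Lib.ModRep.Prime.inner_alternative hP hp2 hM d.2.1 j).1 hj)
    (fun d y hy => Th_regular d.2.1 hy)
    (fun S hS => Cfsg.Agent.Lib.ModRep.Count.card_le hM hx hp2 e hrel S hS) he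
  exact ⟨ε, t, D₀, z, μ, h1, h2, h3, h4, by convert h5, h6, h7, h8, h9, h10, h11, h12,
    fun κ hκ j hj => h13 ⟨κ, hκ⟩ j hj⟩

open scoped Classical in
/-- The case of one class: explicit form. -/
theorem small (hM : IsPModular p M) (hP : Nat.card P = p) (hp2 : ¬ p ^ 2 ∣ Nat.card G) (e : ℕ)
    (hN : Nat.card (Nn P) = e * Nat.card (Cn P)) (he : ¬ e < p - 1) :
    ∃ a : IrrCharacter G → ℤ, e = p - 1 ∧ (∀ j, a j ≠ 0 → a j = 1 ∨ a j = -1) ∧
      (Finset.univ.filter (fun j => a j ≠ 0)).card = e + 1 ∧ a (oneIrr G) = -1 ∧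
      (∀ j, a j ≠ 0 → (p : ℤ) ∣ (charDegree (j : G → ℂ) : ℤ) + a j) ∧
      (∀ g, ¬ p ∣ orderOf g → ∑ j, (a j : ℂ) * (j : G → ℂ) g = 0) ∧
      (∀ κ, IsD P p κ → ∀ j : IrrCharacter G, classInner (Th P κ) (j : G → ℂ) = (a j : ℂ)) := by
  classical
  haveI := Cfsg.Agent.Lib.Blocks.Local.isPrime_of_pModular hM
  letI : Fintype P := Fintype.ofFinite _
  letI : Fintype (Cn P) := Fintype.ofFinite _
  letI : Fintype (Nn P) := Fintype.ofFinite _
  haveI := finite_DD (p := p) (P := P) hP hp2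
  letI : Fintype (DD P p) := Fintype.ofFinite _
  obtain ⟨x, hxP, hx1⟩ : ∃ x ∈ P, x ≠ 1 := by
    have h1 : P ≠ ⊥ := by
      rintro rfl
      rw [Subgroup.card_bot] at hP
      exact hp.out.one_lt.ne hP
    obtain ⟨x, hx⟩ := Subgroup.ne_bot_iff_exists_ne_one.mp h1
    exact ⟨x.1, x.2, fun h => hx (Subtype.ext h)⟩
  have hPx : P = Subgroup.zpowers x := eq_zpowers_of_mem hP hxP hx1
  have hx : orderOf x = p := by
    rw [← Nat.card_zpowers, ← hPx, hP]
  have hrel : (Subgroup.centralizer ((Subgroup.zpowers x : Subgroup G) : Set G)).relIndex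
      (Subgroup.normalizer ((Subgroup.zpowers x : Subgroup G) : Set G)) = e := by
    rw [← hPx]
    have hle : Cn P ≤ Nn P := Subgroup.centralizer_le_normalizer _
    have h1 := Subgroup.card_mul_index ((Cn P).subgroupOf (Nn P))
    have h2 : Nat.card ((Cn P).subgroupOf (Nn P)) = Nat.card (Cn P) :=
      Nat.card_congr (Subgroup.subgroupOfEquivOfLe hle).toEquiv
    rw [h2, hN] at h1
    have h3 : 0 < Nat.card (Cn P) := Nat.card_pos
    have h4 : ((Cn P).subgroupOf (Nn P)).index = e := by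
      apply Nat.eq_of_mul_eq_mul_left h3
      rw [h1, mul_comm]
    exact h4
  obtain ⟨a, h1, h2, h3, h4, h5, h6, h7⟩ :=
    small_abs (rr P p) (fun d => Th P d.1) e p hp.out.two_le (fun d => isGen_Th _)
    (fun d => Th_one _) (gram_same hP hp2 hN) (gram_diff hP hp2 hN)
    (fun a => classInner_Th_one a.2.2) (card_class hP hp2 hN)
    (by rw [← Nat.card_eq_fintype_card, card_DD hP hp2]) (principalBlock M G)
    (fun g => ¬ p ∣ orderOf g)
    (by
      intro j hj d
      exact (Cfsg.Agent.Lib.ModRep.Prime.inner_alternative hP hp2 hM d.2.1 j).2 hj)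
    (by
      intro j hj
      by_contra hall
      push Not at hall
      obtain ⟨a, ha⟩ := sum_Ak hP hp2 j
      have h1 : ∑ d : DD P p, Ak hP d.1 (j : G → ℂ) = 0 := by
        refine Finset.sum_eq_zero fun d _ => ?_
        rw [← (Cfsg.Agent.Lib.ModRep.Prime.inner_alternative hP hp2 hM d.2.1 j).1 hj]
        exact hall d
      rw [h1] at ha
      have h2 : (charDegree (j : G → ℂ) : ℤ) = (p : ℤ) * a := by
        have h3 : (charDegree (j : G → ℂ) : ℂ) = (p : ℂ) * (a : ℂ) := by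
          linear_combination -ha
        exact_mod_cast h3
      apply Cfsg.Agent.Lib.ModRep.Prime.not_dvd_degree hM hp2 hx hj
      have h4 : (p : ℤ) ∣ (charDegree (j : G → ℂ) : ℤ) := ⟨a, h2⟩
      exact_mod_cast h4)
    (by
      intro j hj
      obtain ⟨a, ha⟩ := sum_Ak hP hp2 j
      refine ⟨a, ?_⟩
      rw [← ha]
      exact Finset.sum_congr rfl fun d _ => (Cfsg.Agent.Lib.ModRep.Prime.inner_alternative hP hp2 hM d.2.1 j).1 hj)
    (fun d y hy => Th_regular d.2.1 hy)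
    (fun S hS => Cfsg.Agent.Lib.ModRep.Count.card_le hM hx hp2 e hrel S hS) he
  exact ⟨a, h1, h2, by convert h3, h4, h5, h6, fun κ hκ j => h7 ⟨κ, hκ⟩ j⟩

end Main

end Cfsg.Agent.Lib.Ord7920.B0
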