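import Cfsg.Agent.Lib.Ord7920.Main

/-!
# Simple groups of order 7920: the irreducible characters, named
-/

set_option autoImplicit false
set_option linter.unusedSectionVars false

namespace Cfsg.Agent.Lib.Ord7920.Data

open Cfsg Module
open Cfsg.Agent.Lib.Char.Basic Cfsg.Agent.Lib.Char.Ortho Cfsg.Agent.Lib.Char.Degree
open Cfsg.Agent.Lib.ExcP.Gram Cfsg.Agent.Lib.ExcP.Dual Cfsg.Agent.Lib.ExcP.Inst
open Cfsg.Agent.Lib.ExcP.BlockHA Cfsg.Agent.Lib.ExcP.Core
open Cfsg.Agent.Lib.ModRep.Struct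
open Cfsg.Agent.Lib.Ord7920.Values Cfsg.Agent.Lib.Ord7920.Step11 Cfsg.Agent.Lib.Ord7920.Stage11
open Cfsg.Agent.Lib.Ord7920.Stage5 Cfsg.Agent.Lib.Ord7920.Main
open scoped ComplexConjugate

universe u

theorem expandG {M : Type*} [AddCommMonoid M] (F : ℕ → M) : ∑ d ∈ Dg, F d =
    F 1 + F 10 + F 11 + F 16 + F 44 + F 45 + F 55 + F 66 := by
  simp only [Dg]
  repeat rw [Finset.sum_insert (by decide)]
  rw [Finset.sum_singleton]
  simp only [add_assoc]

/-- The characters of a simple group of order 7920, with the relations used later. -/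
structure Chars (G : Type u) [Group G] [Fintype G] [Fintype (IrrCharacter G)] where
  A : IrrCharacter G
  B : IrrCharacter G
  C : IrrCharacter G
  E : IrrCharacter G
  H : IrrCharacter G
  I : IrrCharacter G
  K : IrrCharacter G
  m₀ : IrrCharacter G
  m₁ : IrrCharacter G
  dA : charDegree (A : G → ℂ) = 10
  dB : charDegree (B : G → ℂ) = 10
  dC : charDegree (C : G → ℂ) = 10
  dE : charDegree (E : G → ℂ) = 11
  dH : charDegree (H : G → ℂ) = 44
  dI : charDegree (I : G → ℂ) = 45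
  dK : charDegree (K : G → ℂ) = 55
  dm₀ : charDegree (m₀ : G → ℂ) = 16
  dm₁ : charDegree (m₁ : G → ℂ) = 16
  sum_all : ∀ f : IrrCharacter G → ℂ, ∑ j, f j = f (oneIrr G) + f A + f B + f C + f E + f m₀ + f m₁ +
    f H + f I + f K
  rel11 : ∀ g, ¬ 11 ∣ orderOf g →
    -1 + (A : G → ℂ) g + (B : G → ℂ) g + (C : G → ℂ) g - (I : G → ℂ) g + (m₀ : G → ℂ) g = 0
  rel11' : ∀ g, ¬ 11 ∣ orderOf g →
    -1 + (A : G → ℂ) g + (B : G → ℂ) g + (C : G → ℂ) g - (I : G → ℂ) g + (m₁ : G → ℂ) g = 0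
  rel5 : ∀ g, ¬ 5 ∣ orderOf g →
    -1 - (m₀ : G → ℂ) g - (m₁ : G → ℂ) g - (E : G → ℂ) g + (H : G → ℂ) g = 0
  P : Subgroup G
  hP : Nat.card P = 11
  hNP : Nat.card (Nn P) = 55
  vA : ∀ u ∈ P, u ≠ 1 → conj ((A : G → ℂ) u) = -1
  vB : ∀ u ∈ P, u ≠ 1 → conj ((B : G → ℂ) u) = -1
  vC : ∀ u ∈ P, u ≠ 1 → conj ((C : G → ℂ) u) = -1
  vE : ∀ u ∈ P, u ≠ 1 → conj ((E : G → ℂ) u) = 0
  vH : ∀ u ∈ P, u ≠ 1 → conj ((H : G → ℂ) u) = 0
  vI : ∀ u ∈ P, u ≠ 1 → conj ((I : G → ℂ) u) = 1
  vK : ∀ u ∈ P, u ≠ 1 → conj ((K : G → ℂ) u) = 0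

variable {G : Type u} [Group G] [Fintype G] [IsSimpleGroup G] [Fintype (IrrCharacter G)]

theorem oneIrr_apply (g : G) : ((oneIrr G : IrrCharacter G) : G → ℂ) g = 1 := rfl

/-- The characters exist. -/
theorem exists_chars (hN : Nat.card G = 7920) : Nonempty (Chars G) := by
  classical
  haveI hp11 : Fact (Nat.Prime 11) := ⟨by norm_num⟩
  haveI hp5 : Fact (Nat.Prime 5) := ⟨by norm_num⟩
  obtain ⟨P'⟩ : Nonempty (Sylow 11 G) := inferInstance
  obtain ⟨Q'⟩ : Nonempty (Sylow 5 G) := inferInstance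
  have hP := Cfsg.Agent.Lib.Small.Sieve.card_sylow_eq (k := 1) (m := 720) (hN.trans (by norm_num))
    (by norm_num) P'
  have hQ := Cfsg.Agent.Lib.Small.Sieve.card_sylow_eq (k := 1) (m := 1584) (hN.trans (by norm_num))
    (by norm_num) Q'
  rw [pow_one] at hP hQ
  obtain ⟨z, a, μ, hclass, h1, h2, h3, h4, h5, h6, h7, h8, hinj, hdμ, hE, hE5, hval, hNP⟩ :=
    main hN hP hQ
  have hG := not_comm hN
  have hnn : ∀ d, nn G d =
      (Finset.univ.filter (fun j : IrrCharacter G => charDegree (j : G → ℂ) = d)).card := by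
    intro d
    rw [nn]
  rw [hnn] at h1 h2 h3 h4 h5 h6 h7 h8
  -- explicit fibres
  have hf1 : Finset.univ.filter (fun j : IrrCharacter G => charDegree (j : G → ℂ) = 1) =
      {oneIrr G} := by
    obtain ⟨x, hx⟩ := Finset.card_eq_one.mp h1
    have h9 : oneIrr G ∈ Finset.univ.filter (fun j : IrrCharacter G => charDegree (j : G → ℂ) = 1) := by
      rw [Finset.mem_filter]
      exact ⟨Finset.mem_univ _, deg_oneIrr⟩
    rw [hx, Finset.mem_singleton] at h9
    rw [hx, h9]
  obtain ⟨A, B, C, hAB, hAC, hBC, hf10⟩ := Finset.card_eq_three.mp h2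
  obtain ⟨E, hf11⟩ := Finset.card_eq_one.mp h3
  have hf16 : Finset.univ.filter (fun j : IrrCharacter G => charDegree (j : G → ℂ) = 16) =
      {μ 0, μ 1} := by
    symm
    apply Finset.eq_of_subset_of_card_le
    · intro j hj
      simp only [Finset.mem_insert, Finset.mem_singleton] at hj
      rw [Finset.mem_filter]
      rcases hj with rfl | rfl <;> exact ⟨Finset.mem_univ _, hdμ _⟩
    · rw [h4, Finset.card_pair]
      exact fun h => by simpa using hinj h
  obtain ⟨H, hf44⟩ := Finset.card_eq_one.mp h5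
  obtain ⟨I, hf45⟩ := Finset.card_eq_one.mp h6
  obtain ⟨K, hf55⟩ := Finset.card_eq_one.mp h7
  have hf66 := Finset.card_eq_zero.mp h8
  have hmemd : ∀ {s : Finset (IrrCharacter G)} {d : ℕ} {x : IrrCharacter G},
      Finset.univ.filter (fun j : IrrCharacter G => charDegree (j : G → ℂ) = d) = s → x ∈ s →
      charDegree (x : G → ℂ) = d := by
    intro s d x hs hx
    rw [← hs, Finset.mem_filter] at hx
    exact hx.2
  have dA := hmemd hf10 (x := A) (by simp)
  have dB := hmemd hf10 (x := B) (by simp)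
  have dC := hmemd hf10 (x := C) (by simp)
  have dE := hmemd hf11 (x := E) (by simp)
  have dH := hmemd hf44 (x := H) (by simp)
  have dI := hmemd hf45 (x := I) (by simp)
  have dK := hmemd hf55 (x := K) (by simp)
  have hall : ∀ f : IrrCharacter G → ℂ, ∑ j, f j = f (oneIrr G) + f A + f B + f C + f E + f (μ 0) +
      f (μ 1) + f H + f I + f K := by
    intro f
    rw [← Finset.sum_fiberwise_of_maps_to (s := Finset.univ) (t := Dg)
      (g := fun j : IrrCharacter G => charDegree (j : G → ℂ)) (fun j _ => (hclass j).1) f, expandG,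
      hf1, hf10, hf11, hf16, hf44, hf45, hf55, hf66]
    rw [Finset.sum_singleton, Finset.sum_singleton, Finset.sum_singleton, Finset.sum_singleton,
      Finset.sum_singleton, Finset.sum_empty, Finset.sum_insert (by simp [hAB, hAC]),
      Finset.sum_pair hBC, Finset.sum_pair (fun h => by simpa using hinj h)]
    ring
  have zv : ∀ j : IrrCharacter G, z j = Zf (charDegree (j : G → ℂ)) := fun j => (hclass j).2.1
  have av : ∀ j : IrrCharacter G, a j = Af (charDegree (j : G → ℂ)) := fun j => (hclass j).2.2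
  have hμz : ∀ i, z (μ i) = 0 := by
    intro i
    rw [zv, hdμ]
    rfl
  have hz1 : z (oneIrr G) = -1 := by rw [zv, deg_oneIrr]; rfl
  have hzA : z A = 1 := by rw [zv, dA]; rfl
  have hzB : z B = 1 := by rw [zv, dB]; rfl
  have hzC : z C = 1 := by rw [zv, dC]; rfl
  have hzE : z E = 0 := by rw [zv, dE]; rfl
  have hzH : z H = 0 := by rw [zv, dH]; rfl
  have hzI : z I = -1 := by rw [zv, dI]; rfl
  have hzK : z K = 0 := by rw [zv, dK]; rfl
  have ha1 : a (oneIrr G) = -1 := by rw [av, deg_oneIrr]; rfl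
  have haA : a A = 0 := by rw [av, dA]; rfl
  have haB : a B = 0 := by rw [av, dB]; rfl
  have haC : a C = 0 := by rw [av, dC]; rfl
  have haE : a E = -1 := by rw [av, dE]; rfl
  have haH : a H = 1 := by rw [av, dH]; rfl
  have haI : a I = 0 := by rw [av, dI]; rfl
  have haK : a K = 0 := by rw [av, dK]; rfl
  have ham : ∀ i, a (μ i) = -1 := by
    intro i
    rw [av, hdμ]
    rfl
  have hrel : ∀ (i : Fin 2) (g : G), ¬ 11 ∣ orderOf g →
      -1 + (A : G → ℂ) g + (B : G → ℂ) g + (C : G → ℂ) g - (I : G → ℂ) g + (μ i : G → ℂ) g = 0 := by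
    intro i g hg
    have h9 := hE i g hg
    rw [hall (fun j => (z j : ℂ) * (j : G → ℂ) g)] at h9
    simp only [hz1, hzA, hzB, hzC, hzE, hzH, hzI, hzK, hμz, oneIrr_apply] at h9
    push_cast at h9
    linear_combination h9
  have hrel5 : ∀ g : G, ¬ 5 ∣ orderOf g →
      -1 - (μ 0 : G → ℂ) g - (μ 1 : G → ℂ) g - (E : G → ℂ) g + (H : G → ℂ) g = 0 := by
    intro g hg
    have h9 := hE5 g hg
    rw [hall (fun j => (a j : ℂ) * (j : G → ℂ) g)] at h9
    simp only [ha1, haA, haB, haC, haE, haH, haI, haK, ham, oneIrr_apply] at h9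
    push_cast at h9
    linear_combination h9
  have hnotμ : ∀ j : IrrCharacter G, charDegree (j : G → ℂ) ≠ 16 → ∀ k, μ k ≠ j := by
    intro j hj k hk
    apply hj
    rw [← hk, hdμ]
  have hvalz : ∀ j : IrrCharacter G, charDegree (j : G → ℂ) ≠ 16 → ∀ u ∈ (P' : Subgroup G), u ≠ 1 →
      conj ((j : G → ℂ) u) = -(z j : ℂ) := fun j hj u hu hu1 => hval j (hnotμ j hj) u hu hu1
  exact ⟨{
    A := A, B := B, C := C, E := E, H := H, I := I, K := K, m₀ := μ 0, m₁ := μ 1
    dA := dA, dB := dB, dC := dC, dE := dE, dH := dH, dI := dI, dK := dK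
    dm₀ := hdμ 0, dm₁ := hdμ 1
    sum_all := hall
    rel11 := hrel 0
    rel11' := hrel 1
    rel5 := hrel5
    P := P', hP := hP, hNP := hNP
    vA := fun u hu hu1 => by
      rw [hvalz A (by rw [dA]; norm_num) u hu hu1, hzA]
      simp
    vB := fun u hu hu1 => by
      rw [hvalz B (by rw [dB]; norm_num) u hu hu1, hzB]
      simp
    vC := fun u hu hu1 => by
      rw [hvalz C (by rw [dC]; norm_num) u hu hu1, hzC]
      simp
    vE := fun u hu hu1 => by
      rw [hvalz E (by rw [dE]; norm_num) u hu hu1, hzE]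
      simp
    vH := fun u hu hu1 => by
      rw [hvalz H (by rw [dH]; norm_num) u hu hu1, hzH]
      simp
    vI := fun u hu hu1 => by
      rw [hvalz I (by rw [dI]; norm_num) u hu hu1, hzI]
      simp
    vK := fun u hu hu1 => by
      rw [hvalz K (by rw [dK]; norm_num) u hu hu1, hzK]
      simp }⟩

end Cfsg.Agent.Lib.Ord7920.Data
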