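import Cfsg.Agent.Lib.Ord7920.Data

/-!
# Simple groups of order 7920: centralizers of involutions
-/

set_option autoImplicit false
set_option linter.unusedSectionVars false

namespace Cfsg.Agent.Lib.Ord7920.InvolC

open Cfsg Module
open Cfsg.Agent.Lib.Char.Basic Cfsg.Agent.Lib.Char.Ortho Cfsg.Agent.Lib.Char.Degree
open Cfsg.Agent.Lib.ExcP.Gram Cfsg.Agent.Lib.ExcP.Core
open Cfsg.Agent.Lib.Ord7920.Values Cfsg.Agent.Lib.Ord7920.Step11 Cfsg.Agent.Lib.Ord7920.Data
open scoped ComplexConjugate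

universe u

variable {G : Type u} [Group G] [Fintype G]

/-- Integer values are bounded by the degree. -/
theorem abs_le_of_value (j : IrrCharacter G) (g : G) {v : ℤ} (hv : (j : G → ℂ) g = v) :
    |v| ≤ (charDegree (j : G → ℂ) : ℤ) := by
  have hle := norm_le_charDegree (isCharacter_of_isIrrCharacter j.2) g
  rw [hv, Complex.norm_intCast] at hle
  exact_mod_cast hle

/-- Column orthogonality with the identity. -/
theorem sum_deg_eq_zero [Fintype (IrrCharacter G)] {g : G} (hg : g ≠ 1) :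
    ∑ j : IrrCharacter G, (j : G → ℂ) g * (charDegree (j : G → ℂ) : ℂ) = 0 := by
  classical
  have h1 := Cfsg.Agent.Lib.Char.Complete.sum_irr_mul_conj g 1
  rw [if_neg (fun h => hg (isConj_one_right.mp h.symm))] at h1
  rw [← h1]
  refine Finset.sum_congr rfl fun j _ => ?_
  rw [irr_one, map_natCast]

/-- Column orthogonality at an element. -/
theorem sum_self (g : G) [Fintype (IrrCharacter G)] :
    ∑ j : IrrCharacter G, (j : G → ℂ) g * conj ((j : G → ℂ) g) =
      (Nat.card (Subgroup.centralizer ({g} : Set G)) : ℂ) := by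
  classical
  have h1 := Cfsg.Agent.Lib.Char.Complete.sum_irr_mul_conj g g
  rwa [if_pos (IsConj.refl g)] at h1

theorem orderOf_of_isConj {a b : G} (h : IsConj a b) : orderOf b = orderOf a := by
  obtain ⟨c, rfl⟩ := isConj_iff.mp h
  have := (MulAut.conj c).orderOf_eq a
  simpa [MulAut.conj_apply] using this

/-- The list for the values of a character of degree `10` at an involution. -/
def La : List ℤ := [10, 6, 2, -2, -6, -10]

/-- The list for the values of a character of degree `11` at an involution. -/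
def Lb : List ℤ := [11, 7, 3, -1, -5, -9]

theorem mem_La {m : ℕ} {a : ℤ} (h : a = 10 - 4 * (m : ℤ)) (hb : |a| ≤ 10) : a ∈ La := by
  rw [abs_le] at hb
  have : m ≤ 5 := by omega
  subst h
  interval_cases m <;> simp [La]

theorem mem_Lb {m : ℕ} {a : ℤ} (h : a = 11 - 4 * (m : ℤ)) (hb : |a| ≤ 11) : a ∈ Lb := by
  rw [abs_le] at hb
  have : m ≤ 5 := by omega
  subst h
  interval_cases m <;> simp [Lb]

theorem final_check {a b c f N : ℤ} (ha : a ∈ La) (hb : b ∈ La) (hc : c ∈ La) (hf : f ∈ Lb)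
    (h1 : 9 * (a ^ 2 + b ^ 2 + c ^ 2) = 90 + 2 * (a + b + c - 1) ^ 2)
    (hN : N = 1 + a ^ 2 + b ^ 2 + c ^ 2 + f ^ 2 + (1 + f) ^ 2 + (a + b + c - 1) ^ 2 +
      (a + b + c + f) ^ 2) (hd : N ∣ 7920) : N = 48 := by
  have hchk : ∀ a ∈ La, ∀ b ∈ La, ∀ c ∈ La, ∀ f ∈ Lb,
      (decide (9 * (a ^ 2 + b ^ 2 + c ^ 2) = 90 + 2 * (a + b + c - 1) ^ 2) &&
        decide ((7920 : ℤ) % (1 + a ^ 2 + b ^ 2 + c ^ 2 + f ^ 2 + (1 + f) ^ 2 + (a + b + c - 1) ^ 2 +
      (a + b + c + f) ^ 2) = 0)) = true →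
      decide (1 + a ^ 2 + b ^ 2 + c ^ 2 + f ^ 2 + (1 + f) ^ 2 + (a + b + c - 1) ^ 2 +
      (a + b + c + f) ^ 2 = 48) = true := by
    decide +kernel
  have h2 := hchk a ha b hb c hc f hf (by
    simp only [Bool.and_eq_true, decide_eq_true_eq]
    refine ⟨h1, ?_⟩
    rw [← hN]
    exact Int.emod_eq_zero_of_dvd hd)
  rw [hN]
  simpa using h2

variable [IsSimpleGroup G] [Fintype (IrrCharacter G)]

/-- No involution inverts an element of order 11. -/
theorem not_inverts (D : Chars G) {x t : G} (hx : x ∈ D.P) (hx1 : x ≠ 1) (ht : orderOf t = 2)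
    (h : t * x * t⁻¹ = x⁻¹) : False := by
  haveI hp11 : Fact (Nat.Prime 11) := ⟨by norm_num⟩
  have h1 : t ∈ Nn D.P := mem_normalizer_of_conj_mem D.hP hx (D.P.inv_mem hx) (inv_ne_one.mpr hx1) h
  have h2 := orderOf_dvd_natCard (⟨t, h1⟩ : Nn D.P)
  rw [Subgroup.orderOf_mk, ht, D.hNP] at h2
  norm_num at h2

theorem card_centralizer_invol (D : Chars G) (hN : Nat.card G = 7920) {t : G} (ht : orderOf t = 2) :
    Nat.card (Subgroup.centralizer ({t} : Set G)) = 48 := by
  classical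
  haveI hp11 : Fact (Nat.Prime 11) := ⟨by norm_num⟩
  have hG := not_comm hN
  have ht2 : t ^ 2 = 1 := by
    rw [← ht]
    exact pow_orderOf_eq_one t
  have ht1 : t ≠ 1 := by
    rintro rfl
    rw [orderOf_one] at ht
    omega
  obtain ⟨x, hx, hx1⟩ : ∃ x ∈ D.P, x ≠ 1 := by
    have h1 : D.P ≠ ⊥ := by
      intro h
      have := D.hP
      rw [h, Subgroup.card_bot] at this
      omega
    obtain ⟨x, hx⟩ := Subgroup.ne_bot_iff_exists_ne_one.mp h1
    exact ⟨x.1, x.2, fun h => hx (Subtype.ext h)⟩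
  -- integer values
  obtain ⟨ma, hma⟩ := involution_value hG D.A ht2
  obtain ⟨mb, hmb⟩ := involution_value hG D.B ht2
  obtain ⟨mc, hmc⟩ := involution_value hG D.C ht2
  obtain ⟨mf, hmf⟩ := involution_value hG D.E ht2
  obtain ⟨mh, hmh⟩ := involution_value hG D.H ht2
  obtain ⟨mi, hmi⟩ := involution_value hG D.I ht2
  obtain ⟨mk, hmk⟩ := involution_value hG D.K ht2
  rw [D.dA] at hma
  rw [D.dB] at hmb
  rw [D.dC] at hmc
  rw [D.dE] at hmf
  rw [D.dH] at hmh
  rw [D.dI] at hmi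
  rw [D.dK] at hmk
  set a : ℤ := 10 - 4 * (ma : ℤ) with ha
  set b : ℤ := 10 - 4 * (mb : ℤ) with hb
  set c : ℤ := 10 - 4 * (mc : ℤ) with hc
  set f : ℤ := 11 - 4 * (mf : ℤ) with hf
  set h : ℤ := 44 - 4 * (mh : ℤ) with hh
  set i : ℤ := 45 - 4 * (mi : ℤ) with hi
  set k : ℤ := 55 - 4 * (mk : ℤ) with hk
  have vA : (D.A : G → ℂ) t = (a : ℂ) := by rw [hma, ha]; push_cast; ring
  have vB : (D.B : G → ℂ) t = (b : ℂ) := by rw [hmb, hb]; push_cast; ring
  have vC : (D.C : G → ℂ) t = (c : ℂ) := by rw [hmc, hc]; push_cast; ring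
  have vE : (D.E : G → ℂ) t = (f : ℂ) := by rw [hmf, hf]; push_cast; ring
  have vH : (D.H : G → ℂ) t = (h : ℂ) := by rw [hmh, hh]; push_cast; ring
  have vI : (D.I : G → ℂ) t = (i : ℂ) := by rw [hmi, hi]; push_cast; ring
  have vK : (D.K : G → ℂ) t = (k : ℂ) := by rw [hmk, hk]; push_cast; ring
  have h2dvd : 2 ∣ orderOf t := by rw [ht]
  have v₀ : (D.m₀ : G → ℂ) t = 0 :=
    value_eq_zero_of_defect_zero D.m₀ (p := 2) (n := 4) (by norm_num) (by rw [hN]; norm_num)
      (by rw [hN]; norm_num) (by rw [D.dm₀]; norm_num) h2dvd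
  have v₁ : (D.m₁ : G → ℂ) t = 0 :=
    value_eq_zero_of_defect_zero D.m₁ (p := 2) (n := 4) (by norm_num) (by rw [hN]; norm_num)
      (by rw [hN]; norm_num) (by rw [D.dm₁]; norm_num) h2dvd
  have hr1 : -1 + a + b + c - i = 0 := by
    have h1 := D.rel11 t (by rw [ht]; norm_num)
    rw [vA, vB, vC, vI, v₀] at h1
    have h2 : ((-1 + a + b + c - i : ℤ) : ℂ) = 0 := by
      push_cast
      linear_combination h1
    exact_mod_cast h2
  have hr2 : -1 - f + h = 0 := by
    have h1 := D.rel5 t (by rw [ht]; norm_num)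
    rw [vE, vH, v₀, v₁] at h1
    have h2 : ((-1 - f + h : ℤ) : ℂ) = 0 := by
      push_cast
      linear_combination h1
    exact_mod_cast h2
  have hr3 : 1 + 10 * a + 10 * b + 10 * c + 11 * f + 44 * h + 45 * i + 55 * k = 0 := by
    have h1 := sum_deg_eq_zero ht1
    rw [D.sum_all (fun j => (j : G → ℂ) t * (charDegree (j : G → ℂ) : ℂ))] at h1
    simp only [D.dA, D.dB, D.dC, D.dE, D.dH, D.dI, D.dK, D.dm₀, D.dm₁, deg_oneIrr, vA, vB, vC, vE, vH, vI,
      vK, v₀, v₁, oneIrr_apply] at h1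
    have h2 : ((1 + 10 * a + 10 * b + 10 * c + 11 * f + 44 * h + 45 * i + 55 * k : ℤ) : ℂ) = 0 := by
      push_cast
      push_cast at h1
      linear_combination h1
    exact_mod_cast h2
  have hr4 : (Nat.card (Subgroup.centralizer ({t} : Set G)) : ℤ) =
      1 + a ^ 2 + b ^ 2 + c ^ 2 + f ^ 2 + h ^ 2 + i ^ 2 + k ^ 2 := by
    have h1 := sum_self t
    rw [D.sum_all (fun j => (j : G → ℂ) t * conj ((j : G → ℂ) t))] at h1
    simp only [vA, vB, vC, vE, vH, vI, vK, v₀, v₁, oneIrr_apply, map_intCast, map_one, map_zero] at h1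
    have h2 : (((Nat.card (Subgroup.centralizer ({t} : Set G)) : ℤ)) : ℂ) =
        ((1 + a ^ 2 + b ^ 2 + c ^ 2 + f ^ 2 + h ^ 2 + i ^ 2 + k ^ 2 : ℤ) : ℂ) := by
      push_cast
      rw [← h1]
      ring
    exact_mod_cast h2
  -- Frobenius
  have hr5 : 9 * (a ^ 2 + b ^ 2 + c ^ 2) = 90 + 2 * i ^ 2 := by
    have h1 := Cfsg.Agent.Lib.Char.ClassProd.card_product_eq t t x
    have hempty : Nat.card {p : G × G // IsConj t p.1 ∧ IsConj t p.2 ∧ p.1 * p.2 = x} = 0 := by
      haveI : IsEmpty {p : G × G // IsConj t p.1 ∧ IsConj t p.2 ∧ p.1 * p.2 = x} := by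
        refine ⟨fun p => ?_⟩
        obtain ⟨⟨t₁, t₂⟩, h3, h4, h5⟩ := p
        simp only at h3 h4 h5
        have ho1 : orderOf t₁ = 2 := by
          rw [← ht]
          exact orderOf_of_isConj h3
        have ho2 : orderOf t₂ = 2 := by
          rw [← ht]
          exact orderOf_of_isConj h4
        have hs1 : t₁ * t₁ = 1 := by
          rw [← pow_two, ← ho1]
          exact pow_orderOf_eq_one t₁
        have hs2 : t₂ * t₂ = 1 := by
          rw [← pow_two, ← ho2]
          exact pow_orderOf_eq_one t₂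
        apply not_inverts D hx hx1 ho1
        have hinv1 : t₁⁻¹ = t₁ := inv_eq_of_mul_eq_one_left hs1
        have hinv2 : t₂⁻¹ = t₂ := inv_eq_of_mul_eq_one_left hs2
        rw [← h5, mul_inv_rev, hinv1, hinv2]
        calc t₁ * (t₁ * t₂) * t₁ = (t₁ * t₁) * t₂ * t₁ := by group
          _ = t₂ * t₁ := by rw [hs1, one_mul]
      exact Nat.card_of_isEmpty
    rw [hempty] at h1
    have hcl : (Nat.card {y : G // IsConj t y} : ℂ) ≠ 0 := by
      haveI : Nonempty {y : G // IsConj t y} := ⟨⟨t, IsConj.refl t⟩⟩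
      exact_mod_cast (Nat.card_pos (α := {y : G // IsConj t y})).ne'
    have hcG : (Nat.card G : ℂ) ≠ 0 := by
      rw [hN]
      norm_num
    have h2 : ∑ χ : IrrCharacter G, (χ : G → ℂ) t * (χ : G → ℂ) t * conj ((χ : G → ℂ) x) /
        (χ : G → ℂ) 1 = 0 := by
      have h3 := h1.symm
      push_cast at h3
      rcases mul_eq_zero.mp h3 with h4 | h4
      · exfalso
        rw [div_eq_zero_iff] at h4
        rcases h4 with h4 | h4
        · rcases mul_eq_zero.mp h4 with h5 | h5 <;> exact hcl h5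
        · exact hcG h4
      · exact h4
    rw [D.sum_all (fun j => (j : G → ℂ) t * (j : G → ℂ) t * conj ((j : G → ℂ) x) / (j : G → ℂ) 1)] at h2
    simp only [irr_one, D.dA, D.dB, D.dC, D.dE, D.dH, D.dI, D.dK, D.dm₀, D.dm₁, vA, vB, vC, vE,
      vH, vI, vK, v₀, v₁, oneIrr_apply, D.vA x hx hx1, D.vB x hx hx1, D.vC x hx hx1, D.vE x hx hx1,
      D.vH x hx hx1, D.vI x hx hx1, D.vK x hx hx1, map_one] at h2
    have h3 : ((9 * (a ^ 2 + b ^ 2 + c ^ 2) - 90 - 2 * i ^ 2 : ℤ) : ℂ) = 0 := by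
      push_cast
      push_cast at h2
      linear_combination (-90 : ℂ) * h2
    have h4 : 9 * (a ^ 2 + b ^ 2 + c ^ 2) - 90 - 2 * i ^ 2 = 0 := by exact_mod_cast h3
    linarith
  -- the final check
  have hbA := abs_le_of_value D.A t vA
  have hbB := abs_le_of_value D.B t vB
  have hbC := abs_le_of_value D.C t vC
  have hbE := abs_le_of_value D.E t vE
  rw [D.dA] at hbA
  rw [D.dB] at hbB
  rw [D.dC] at hbC
  rw [D.dE] at hbE
  have hi' : i = a + b + c - 1 := by linarith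
  have hh' : h = 1 + f := by linarith
  have hk' : k = -(a + b + c + f) := by
    rw [hi', hh'] at hr3
    linarith
  have hd : ((Nat.card (Subgroup.centralizer ({t} : Set G)) : ℕ) : ℤ) ∣ 7920 := by
    have := Subgroup.card_subgroup_dvd_card (Subgroup.centralizer ({t} : Set G))
    rw [hN] at this
    exact_mod_cast this
  have hout := final_check (mem_La ha hbA) (mem_La hb hbB) (mem_La hc hbC) (mem_Lb hf hbE)
    (by rw [hr5, hi']) (by
      rw [hr4, hi', hh', hk']
      ring) hd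
  exact_mod_cast hout

end Cfsg.Agent.Lib.Ord7920.InvolC
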