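import Cfsg.Agent.Lib.Ord7920.Stage5

/-!
# Simple groups of order 7920: the list of degrees
-/

set_option autoImplicit false
set_option linter.unusedSectionVars false

namespace Cfsg.Agent.Lib.Ord7920.Main

open Cfsg Module
open Cfsg.Agent.Lib.Char.Basic Cfsg.Agent.Lib.Char.Ortho Cfsg.Agent.Lib.Char.Degree
open Cfsg.Agent.Lib.ExcP.Gram Cfsg.Agent.Lib.ExcP.Dual Cfsg.Agent.Lib.ExcP.Inst
open Cfsg.Agent.Lib.ExcP.BlockHA Cfsg.Agent.Lib.ExcP.Core
open Cfsg.Agent.Lib.ModRep.Struct
open Cfsg.Agent.Lib.Ord7920.Values Cfsg.Agent.Lib.Ord7920.Step11 Cfsg.Agent.Lib.Ord7920.Stage11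
open Cfsg.Agent.Lib.Ord7920.Stage5
open scoped ComplexConjugate

universe u

/-- The sign at the prime 11, as a function of the degree. -/
def Zf (d : ℕ) : ℤ := if d = 1 ∨ d = 45 then -1 else if d = 10 then 1 else 0

/-- The sign at the prime 5, as a function of the degree. -/
def Af (d : ℕ) : ℤ := if d = 1 ∨ d = 11 ∨ d = 16 ∨ d = 66 then -1 else if d = 44 then 1 else 0

/-- The possible degrees. -/
def Dg : Finset ℕ := {1, 10, 11, 16, 44, 45, 55, 66}

theorem rest_cases {d : ℕ} {s : ℤ} (hd : d ∣ 7920) (hsq : d ^ 2 ≤ 7920) (h11 : 11 ∣ d)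
    (hs : (s = 0 ∧ 5 ∣ d) ∨ ((s = 1 ∨ s = -1) ∧ (5 : ℤ) ∣ (d : ℤ) + s)) :
    (d = 11 ∧ s = -1) ∨ (d = 44 ∧ s = 1) ∨ (d = 55 ∧ s = 0) ∨ (d = 66 ∧ s = -1) := by
  have hle : d ≤ 88 := by nlinarith
  have hchk : ∀ d ∈ List.range 89, ∀ s ∈ [(0 : ℤ), 1, -1], (7920 % d == 0 && d % 11 == 0 &&
      ((s == 0 && d % 5 == 0) || (s != 0 && decide (((d : ℤ) + s) % 5 = 0)))) = true →
      ((d == 11 && s == -1) || (d == 44 && s == 1) || (d == 55 && s == 0) ||
        (d == 66 && s == -1)) = true := by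
    decide +kernel
  have hs' : s ∈ [(0 : ℤ), 1, -1] := by
    rcases hs with ⟨rfl, -⟩ | ⟨rfl | rfl, -⟩ <;> simp
  have h1 := hchk d (List.mem_range.mpr (by omega)) s hs' (by
    simp only [Bool.and_eq_true, beq_iff_eq, Bool.or_eq_true, bne_iff_ne, decide_eq_true_eq]
    refine ⟨⟨Nat.mod_eq_zero_of_dvd hd, Nat.mod_eq_zero_of_dvd h11⟩, ?_⟩
    rcases hs with ⟨h, h2⟩ | ⟨h, h2⟩
    · exact Or.inl ⟨h, Nat.mod_eq_zero_of_dvd h2⟩
    · refine Or.inr ⟨?_, Int.emod_eq_zero_of_dvd h2⟩
      rcases h with rfl | rfl <;> norm_num)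
  simpa [or_assoc] using h1

theorem expand (n : ℕ → ℕ) (W : ℕ → ℤ) : ∑ d ∈ Dg, (n d : ℤ) * W d =
    n 1 * W 1 + n 10 * W 10 + n 11 * W 11 + n 16 * W 16 + n 44 * W 44 + n 45 * W 45 +
      n 55 * W 55 + n 66 * W 66 := by
  simp only [Dg]
  repeat rw [Finset.sum_insert (by decide)]
  rw [Finset.sum_singleton]
  ring

theorem expandN (n : ℕ → ℕ) : ∑ d ∈ Dg, n d =
    n 1 + n 10 + n 11 + n 16 + n 44 + n 45 + n 55 + n 66 := by
  simp only [Dg]
  repeat rw [Finset.sum_insert (by decide)]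
  rw [Finset.sum_singleton]
  ring

variable {G : Type u} [Group G] [Fintype G] [IsSimpleGroup G] [Fintype (IrrCharacter G)]

/-- The degree count. -/
noncomputable def nn (G : Type u) [Group G] [Fintype G] [Fintype (IrrCharacter G)] (d : ℕ) : ℕ :=
  open scoped Classical in
  (Finset.univ.filter (fun j : IrrCharacter G => charDegree (j : G → ℂ) = d)).card

/-- The list of degrees, with all the data for later use. -/
theorem main (hN : Nat.card G = 7920) {P Q : Subgroup G} (hP : Nat.card P = 11)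
    (hQ : Nat.card Q = 5) :
    ∃ (z a : IrrCharacter G → ℤ) (μ : Fin 2 → IrrCharacter G),
      (∀ j : IrrCharacter G, charDegree (j : G → ℂ) ∈ Dg ∧ z j = Zf (charDegree (j : G → ℂ)) ∧
        a j = Af (charDegree (j : G → ℂ))) ∧
      nn G 1 = 1 ∧ nn G 10 = 3 ∧ nn G 11 = 1 ∧ nn G 16 = 2 ∧ nn G 44 = 1 ∧ nn G 45 = 1 ∧
      nn G 55 = 1 ∧ nn G 66 = 0 ∧ Function.Injective μ ∧ (∀ i, charDegree (μ i : G → ℂ) = 16) ∧
      (∀ i g, ¬ 11 ∣ orderOf g → (∑ j : IrrCharacter G, (z j : ℂ) * (j : G → ℂ) g) +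
        (μ i : G → ℂ) g = 0) ∧
      (∀ g, ¬ 5 ∣ orderOf g → ∑ j : IrrCharacter G, (a j : ℂ) * (j : G → ℂ) g = 0) ∧
      (∀ j : IrrCharacter G, (∀ k, μ k ≠ j) → ∀ u ∈ P, u ≠ 1 →
        conj ((j : G → ℂ) u) = -(z j : ℂ)) ∧ Nat.card (Nn P) = 55 := by
  classical
  have hG := not_comm hN
  obtain ⟨hNP, D₀, z, μ, hinj, hzμ, hdegμ, hzone, hdegs, hzcard, h11, hE, hval, hopt⟩ := stage11 hN hP
  obtain ⟨j₁₀, hj₁₀⟩ : ∃ j : IrrCharacter G, charDegree (j : G → ℂ) = 10 := by
    rcases hopt with h | h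
    · exact h.2
    · exact h.2.1
  obtain ⟨a, ha, hacard, haone, hadeg, hE5, ha0⟩ := stage5 hN j₁₀ hj₁₀ hQ
  -- no character of degree 12
  have hno12 : ∀ j : IrrCharacter G, charDegree (j : G → ℂ) ≠ 12 := by
    intro j hj
    by_cases h0 : a j = 0
    · have := ha0 j h0
      rw [hj] at this
      omega
    · have h1 := hadeg j h0
      rw [hj] at h1
      rcases ha j h0 with h2 | h2 <;> rw [h2] at h1 <;> omega
  have hD16 : D₀ = 16 := by
    rcases hopt with h | h
    · exact h.1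
    · exfalso
      obtain ⟨j, hj⟩ := h.2.2
      exact hno12 j hj
  subst hD16
  have hsqN := fun j : IrrCharacter G => (deg_sq_le j)
  have hclass : ∀ j : IrrCharacter G, charDegree (j : G → ℂ) ∈ Dg ∧
      z j = Zf (charDegree (j : G → ℂ)) ∧ a j = Af (charDegree (j : G → ℂ)) := by
    intro j
    have h5 : ∀ d, charDegree (j : G → ℂ) = d → (5 ∣ d → a j = 0) := by
      intro d hd h5d
      by_contra h0
      have h1 := hadeg j h0
      rw [hd] at h1
      have h2 : (5 : ℤ) ∣ (d : ℤ) := by exact_mod_cast h5d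
      rcases ha j h0 with h3 | h3 <;> rw [h3] at h1 <;> omega
    by_cases hz0 : z j = 0
    · by_cases hk : ∀ k, μ k ≠ j
      · have h1 := h11 j hz0 hk
        have h2 := deg_sq_le j
        rw [hN] at h2
        have h3 := charDegree_dvd_card j.2
        rw [hN] at h3
        have hs : (a j = 0 ∧ 5 ∣ charDegree (j : G → ℂ)) ∨ ((a j = 1 ∨ a j = -1) ∧
            (5 : ℤ) ∣ (charDegree (j : G → ℂ) : ℤ) + a j) := by
          by_cases h0 : a j = 0
          · exact Or.inl ⟨h0, ha0 j h0⟩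
          · exact Or.inr ⟨ha j h0, hadeg j h0⟩
        rcases rest_cases h3 h2 h1 hs with ⟨h, h'⟩ | ⟨h, h'⟩ | ⟨h, h'⟩ | ⟨h, h'⟩ <;>
          rw [h, hz0, h'] <;> exact ⟨by decide, by decide, by decide⟩
      · push Not at hk
        obtain ⟨k, rfl⟩ := hk
        have h1 := hdegμ k
        rw [h1, hz0]
        have h2 : a (μ k) ≠ 0 := by
          intro h3
          have := ha0 _ h3
          rw [h1] at this
          omega
        have h3 := hadeg _ h2
        rw [h1] at h3
        have h4 : a (μ k) = -1 := by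
          rcases ha _ h2 with h5' | h5'
          · rw [h5'] at h3
            omega
          · exact h5'
        rw [h4]
        exact ⟨by decide, by decide, by decide⟩
    · rcases hdegs j hz0 with ⟨h1, h2⟩ | ⟨h1, h2⟩
      · rw [h1, h2, h5 10 h2 (by norm_num)]
        exact ⟨by decide, by decide, by decide⟩
      · rw [h1]
        rcases h2 with h2 | h2 | h2
        · have hj1 : j = oneIrr G := by
            by_contra hj1
            have := Cfsg.Agent.Lib.ExcP.Kill.two_le_degree hG j hj1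
            omega
          rw [h2, hj1, haone]
          exact ⟨by decide, by decide, by decide⟩
        · exact absurd h2 (hno12 j)
        · rw [h2, h5 45 h2 (by norm_num)]
          exact ⟨by decide, by decide, by decide⟩
  -- the counts
  have hmem : ∀ j ∈ (Finset.univ : Finset (IrrCharacter G)), charDegree (j : G → ℂ) ∈ Dg :=
    fun j _ => (hclass j).1
  have hnn : ∀ d, nn G d = (Finset.univ.filter (fun j : IrrCharacter G => charDegree (j : G → ℂ) = d)).card := by
    intro d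
    rw [nn]
  have hsum : ∀ (W : IrrCharacter G → ℤ) (W' : ℕ → ℤ), (∀ j, W j = W' (charDegree (j : G → ℂ))) →
      ∑ j, W j = nn G 1 * W' 1 + nn G 10 * W' 10 + nn G 11 * W' 11 + nn G 16 * W' 16 +
        nn G 44 * W' 44 + nn G 45 * W' 45 + nn G 55 * W' 55 + nn G 66 * W' 66 := by
    intro W W' hW
    rw [sum_by_deg Finset.univ (fun j : IrrCharacter G => charDegree (j : G → ℂ)) Dg hmem W W'
      (fun j _ => hW j)]
    simp only [← hnn]
    exact expand _ _
  have hn1 : nn G 1 = 1 := by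
    rw [hnn, Finset.card_eq_one]
    refine ⟨oneIrr G, ?_⟩
    ext j
    simp only [Finset.mem_filter, Finset.mem_singleton, Finset.mem_univ, true_and]
    constructor
    · intro hj
      by_contra hj1
      have := Cfsg.Agent.Lib.ExcP.Kill.two_le_degree hG j hj1
      omega
    · rintro rfl
      exact deg_oneIrr
  have hn16 : nn G 16 = 2 := by
    have h1 : Finset.univ.filter (fun j : IrrCharacter G => charDegree (j : G → ℂ) = 16) =
        {μ 0, μ 1} := by
      ext j
      simp only [Finset.mem_filter, Finset.mem_singleton, Finset.mem_univ, true_and,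
        Finset.mem_insert]
      constructor
      · intro hj
        have hz0 : z j = 0 := by
          by_contra hz0
          rcases hdegs j hz0 with ⟨-, h2⟩ | ⟨-, h2⟩ <;> omega
        by_contra hk
        push Not at hk
        have hk' : ∀ k, μ k ≠ j := by
          intro k
          fin_cases k
          · exact fun h => hk.1 h.symm
          · exact fun h => hk.2 h.symm
        have := h11 j hz0 hk'
        rw [hj] at this
        omega
      · rintro (rfl | rfl) <;> exact hdegμ _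
    rw [hnn, h1, Finset.card_pair]
    exact fun h => by simpa using hinj h
  have hzc : (Finset.univ.filter (fun j => z j ≠ 0)).card = nn G 1 + nn G 10 + nn G 45 := by
    have h1 := hsum (fun j => if z j ≠ 0 then 1 else 0) (fun d => if Zf d ≠ 0 then 1 else 0)
      (fun j => by rw [(hclass j).2.1])
    have h2 : ((Finset.univ.filter (fun j => z j ≠ 0)).card : ℤ) =
        ∑ j, (if z j ≠ 0 then (1 : ℤ) else 0) := by
      rw [Finset.card_filter]
      push_cast
      rfl
    rw [← h2] at h1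
    generalize (Finset.univ.filter (fun j => z j ≠ 0)).card = c at h1 ⊢
    simp only [Zf] at h1
    norm_num at h1
    omega
  have hac : (Finset.univ.filter (fun j => a j ≠ 0)).card =
      nn G 1 + nn G 11 + nn G 16 + nn G 44 + nn G 66 := by
    have h1 := hsum (fun j => if a j ≠ 0 then 1 else 0) (fun d => if Af d ≠ 0 then 1 else 0)
      (fun j => by rw [(hclass j).2.2])
    have h2 : ((Finset.univ.filter (fun j => a j ≠ 0)).card : ℤ) =
        ∑ j, (if a j ≠ 0 then (1 : ℤ) else 0) := by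
      rw [Finset.card_filter]
      push_cast
      rfl
    rw [← h2] at h1
    generalize (Finset.univ.filter (fun j => a j ≠ 0)).card = c at h1 ⊢
    simp only [Af] at h1
    norm_num at h1
    omega
  have hE1 : ∑ j : IrrCharacter G, z j * (charDegree (j : G → ℂ) : ℤ) + 16 = 0 := by
    have h1 := hE 0 1 (by simp)
    simp only [irr_one, hdegμ] at h1
    exact_mod_cast h1
  have hE2 : ∑ j : IrrCharacter G, a j * (charDegree (j : G → ℂ) : ℤ) = 0 := by
    have h1 := hE5 1 (by simp)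
    simp only [irr_one] at h1
    exact_mod_cast h1
  have hsumz := hsum (fun j => z j * (charDegree (j : G → ℂ) : ℤ)) (fun d => Zf d * (d : ℤ))
    (fun j => by rw [(hclass j).2.1])
  have hsuma := hsum (fun j => a j * (charDegree (j : G → ℂ) : ℤ)) (fun d => Af d * (d : ℤ))
    (fun j => by rw [(hclass j).2.2])
  have hsums := hsum (fun j => (charDegree (j : G → ℂ) : ℤ) ^ 2) (fun d => (d : ℤ) ^ 2)
    (fun j => rfl)
  have hsq : ∑ j : IrrCharacter G, (charDegree (j : G → ℂ) : ℤ) ^ 2 = 7920 := by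
    have := sum_charDegree_sq (G := G)
    rw [hN] at this
    exact_mod_cast this
  simp only [Zf, Af] at hsumz hsuma
  norm_num at hsumz hsuma hsums
  rw [hsq] at hsums
  rw [hsumz] at hE1
  rw [hsuma] at hE2
  rw [hzcard] at hzc
  rw [hacard] at hac
  refine ⟨z, a, μ, hclass, ?_⟩
  have hfin : nn G 1 = 1 ∧ nn G 10 = 3 ∧ nn G 11 = 1 ∧ nn G 16 = 2 ∧ nn G 44 = 1 ∧ nn G 45 = 1 ∧
      nn G 55 = 1 ∧ nn G 66 = 0 := by
    omega
  obtain ⟨h1, h2, h3, h4, h5, h6, h7, h8⟩ := hfin
  exact ⟨h1, h2, h3, h4, h5, h6, h7, h8, hinj, hdegμ, hE, hE5, hval, hNP⟩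

end Cfsg.Agent.Lib.Ord7920.Main
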