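import Cfsg.Agent.Lib.Ord7920.Step11

/-!
# Simple groups of order 7920: the principal 11-block
-/

set_option autoImplicit false
set_option linter.unusedSectionVars false

namespace Cfsg.Agent.Lib.Ord7920.Stage11

open Cfsg Module
open Cfsg.Agent.Lib.Char.Basic Cfsg.Agent.Lib.Char.Ortho Cfsg.Agent.Lib.Char.Degree
open Cfsg.Agent.Lib.ExcP.Gram Cfsg.Agent.Lib.ExcP.Dual Cfsg.Agent.Lib.ExcP.Inst
open Cfsg.Agent.Lib.ExcP.BlockHA Cfsg.Agent.Lib.ExcP.Core
open Cfsg.Agent.Lib.ModRep.Struct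
open Cfsg.Agent.Lib.Ord7920.Values Cfsg.Agent.Lib.Ord7920.Step11
open scoped ComplexConjugate

universe u

/-- The possible degrees of characters with a non-zero sign. -/
theorem deg_cases {d : ℕ} {s : ℤ} (hd : d ∣ 7920) (hsq : d ^ 2 ≤ 7920)
    (hs : s = 1 ∨ s = -1) (hm : (11 : ℤ) ∣ (d : ℤ) + s) :
    (s = 1 ∧ d = 10) ∨ (s = -1 ∧ (d = 1 ∨ d = 12 ∨ d = 45)) := by
  have hle : d ≤ 88 := by nlinarith
  have hchk : ∀ d ∈ List.range 89, ∀ s ∈ [(1 : ℤ), -1], (7920 % d == 0 &&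
      decide (((d : ℤ) + s) % 11 = 0)) = true →
      ((s == 1 && d == 10) || (s == -1 && (d == 1 || d == 12 || d == 45))) = true := by
    decide +kernel
  have h1 := hchk d (List.mem_range.mpr (by omega)) s (by rcases hs with rfl | rfl <;> simp) (by
    simp only [Bool.and_eq_true, beq_iff_eq, decide_eq_true_eq]
    exact ⟨Nat.mod_eq_zero_of_dvd hd, Int.emod_eq_zero_of_dvd hm⟩)
  simpa [or_assoc] using h1

/-- The numerical enumeration. -/
theorem enum {a b c D : ℕ} {ε : ℤ} (hε : ε = 1 ∨ ε = -1) (h : a + b + c = 4)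
    (hE : -1 + 10 * (a : ℤ) - 12 * b - 45 * c + ε * D = 0)
    (hsq : 1 + 100 * a + 144 * b + 2025 * c + 2 * D ^ 2 ≤ 7920) (hD : D ∣ 7920)
    (h11 : (11 : ℤ) ∣ (D : ℤ) - 5 * ε) :
    (ε = 1 ∧ D = 16 ∧ a = 3 ∧ b = 0 ∧ c = 1) ∨ (ε = 1 ∧ D = 5 ∧ a = 2 ∧ b = 2 ∧ c = 0) := by
  have hD2 : D ≤ 62 := by
    by_contra hcon
    have : 63 ≤ D := by omega
    nlinarith
  have hchk : ∀ a ∈ List.range 5, ∀ b ∈ List.range 5, ∀ c ∈ List.range 5, ∀ D ∈ List.range 63,
      ∀ ε ∈ [(1 : ℤ), -1],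
      (a + b + c == 4 && decide (-1 + 10 * (a : ℤ) - 12 * b - 45 * c + ε * D = 0) &&
        decide (1 + 100 * a + 144 * b + 2025 * c + 2 * D ^ 2 ≤ 7920) && 7920 % D == 0 &&
        decide (((D : ℤ) - 5 * ε) % 11 = 0)) = true →
      ((ε == 1 && D == 16 && a == 3 && b == 0 && c == 1) ||
        (ε == 1 && D == 5 && a == 2 && b == 2 && c == 0)) = true := by
    decide +kernel
  have h1 := hchk a (List.mem_range.mpr (by omega)) b (List.mem_range.mpr (by omega)) c
    (List.mem_range.mpr (by omega)) D (List.mem_range.mpr (by omega)) ε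
    (by rcases hε with rfl | rfl <;> simp) (by
    simp only [Bool.and_eq_true, beq_iff_eq, decide_eq_true_eq]
    exact ⟨⟨⟨⟨h, hE⟩, hsq⟩, Nat.mod_eq_zero_of_dvd hD⟩, Int.emod_eq_zero_of_dvd h11⟩)
  simpa [and_assoc] using h1

variable {G : Type u} [Group G] [Fintype G] [IsSimpleGroup G] [Fintype (IrrCharacter G)]

/-- The output of the analysis of the principal 11-block. -/
theorem stage11 (hN : Nat.card G = 7920) {P : Subgroup G} (hP : Nat.card P = 11) :
    Nat.card (Nn P) = 55 ∧ ∃ (D₀ : ℕ) (z : IrrCharacter G → ℤ) (μ : Fin 2 → IrrCharacter G),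
      Function.Injective μ ∧ (∀ i, z (μ i) = 0) ∧ (∀ i, charDegree (μ i : G → ℂ) = D₀) ∧
      z (oneIrr G) = -1 ∧
      (∀ j : IrrCharacter G, z j ≠ 0 → (z j = 1 ∧ charDegree (j : G → ℂ) = 10) ∨
        (z j = -1 ∧ (charDegree (j : G → ℂ) = 1 ∨ charDegree (j : G → ℂ) = 12 ∨
          charDegree (j : G → ℂ) = 45))) ∧
      (Finset.univ.filter (fun j => z j ≠ 0)).card = 5 ∧
      (∀ j : IrrCharacter G, z j = 0 → (∀ k, μ k ≠ j) → 11 ∣ charDegree (j : G → ℂ)) ∧
      (∀ i g, ¬ 11 ∣ orderOf g → (∑ j : IrrCharacter G, (z j : ℂ) * (j : G → ℂ) g) +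
        (μ i : G → ℂ) g = 0) ∧
      (∀ j : IrrCharacter G, (∀ k, μ k ≠ j) → ∀ u ∈ P, u ≠ 1 →
        conj ((j : G → ℂ) u) = -(z j : ℂ)) ∧
      ((D₀ = 16 ∧ ∃ j : IrrCharacter G, charDegree (j : G → ℂ) = 10) ∨
        (D₀ = 5 ∧ (∃ j : IrrCharacter G, charDegree (j : G → ℂ) = 10) ∧
          ∃ j : IrrCharacter G, charDegree (j : G → ℂ) = 12)) := by
  classical
  haveI hp11 : Fact (Nat.Prime 11) := ⟨by norm_num⟩
  have hG := not_comm hN
  have hp2 : ¬ 11 ^ 2 ∣ Nat.card G := by rw [hN]; norm_num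
  have hpd : 11 ∣ Nat.card G := by rw [hN]; norm_num
  letI : Fintype P := Fintype.ofFinite _
  haveI := finite_DD (p := 11) (P := P) hP hp2
  letI : Fintype (DD P 11) := Fintype.ofFinite _
  obtain ⟨M, hM⟩ := Cfsg.Agent.Lib.BlockH.Basic.exists_isPModular (p := 11) (by norm_num)
  obtain ⟨e, n, he, hed, he1, hn, hnm, -⟩ := index_data hG hP hp2 hpd
  have hCc := card_centralizer hN hP
  have hCP : Cn P = P := (Subgroup.eq_of_le_of_card_ge (le_centralizer hP) (by rw [hCc, hP])).symm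
  have he5 : e = 5 := by
    have h1 : e ≤ 10 := Nat.le_of_dvd (by norm_num) hed
    rw [he, hCc, hN] at hn
    interval_cases e <;> omega
  subst he5
  have hNP : Nat.card (Nn P) = 55 := by rw [he, hCc]
  refine ⟨hNP, ?_⟩
  obtain ⟨ε, t, D₀, z, μ, hε, hte, ht2, hz, hcard, hzone, hzdeg, hD₀, hinj, hzμ, hdegμ, hE, hinner⟩ :=
    Cfsg.Agent.Lib.Ord7920.B0.large hM hP hp2 5 he (by norm_num)
  obtain rfl : t = 2 := by omega
  have hnotμ : ∀ j, z j ≠ 0 → ∀ k, μ k ≠ j := by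
    intro j hj k hk
    apply hj
    rw [← hk, hzμ]
  have hE1 : ∑ j : IrrCharacter G, z j * (charDegree (j : G → ℂ) : ℤ) + ε * (D₀ : ℤ) = 0 := by
    have h1 := hE 0 1 (by simp)
    simp only [irr_one, hdegμ] at h1
    exact_mod_cast h1
  have hdegs : ∀ j : IrrCharacter G, z j ≠ 0 → (z j = 1 ∧ charDegree (j : G → ℂ) = 10) ∨
      (z j = -1 ∧ (charDegree (j : G → ℂ) = 1 ∨ charDegree (j : G → ℂ) = 12 ∨
        charDegree (j : G → ℂ) = 45)) := by
    intro j hj
    have h1 := deg_sq_le j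
    rw [hN] at h1
    have h2 := charDegree_dvd_card j.2
    rw [hN] at h2
    have h3 := hzdeg j hj
    push_cast at h3
    exact deg_cases h2 h1 (hz j hj) h3
  set F := Finset.univ.filter (fun j => z j ≠ 0) with hF
  have hsumF : ∑ j ∈ F, z j * (charDegree (j : G → ℂ) : ℤ) =
      ∑ j : IrrCharacter G, z j * (charDegree (j : G → ℂ) : ℤ) := by
    apply Finset.sum_filter_of_ne
    intro j _ hj
    exact left_ne_zero_of_mul hj
  have hone : oneIrr G ∈ F := by
    rw [hF, Finset.mem_filter]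
    exact ⟨Finset.mem_univ _, by rw [hzone]; norm_num⟩
  have hdF : ∀ j ∈ F, charDegree (j : G → ℂ) ∈ ({1, 10, 12, 45} : Finset ℕ) := by
    intro j hj
    rw [hF, Finset.mem_filter] at hj
    rcases hdegs j hj.2 with h | h
    · rw [h.2]
      simp
    · rcases h.2 with h2 | h2 | h2 <;> rw [h2] <;> simp
  have hzF : ∀ j ∈ F, z j * (charDegree (j : G → ℂ) : ℤ) =
      (fun d : ℕ => if d = 10 then (d : ℤ) else -(d : ℤ)) (charDegree (j : G → ℂ)) := by
    intro j hj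
    rw [hF, Finset.mem_filter] at hj
    rcases hdegs j hj.2 with h | h
    · rw [h.1, h.2]
      simp
    · rw [h.1]
      rcases h.2 with h2 | h2 | h2 <;> rw [h2] <;> simp
  have hsqF : ∀ j ∈ F, charDegree (j : G → ℂ) ^ 2 =
      (fun d : ℕ => d ^ 2) (charDegree (j : G → ℂ)) := fun _ _ => rfl
  have h1 := sum_by_deg F (fun j : IrrCharacter G => charDegree (j : G → ℂ)) _ hdF
    (fun j : IrrCharacter G => z j * (charDegree (j : G → ℂ) : ℤ))
    (fun d => if d = 10 then (d : ℤ) else -(d : ℤ)) hzF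
  have h2 := card_by_deg F (fun j : IrrCharacter G => charDegree (j : G → ℂ)) _ hdF
  have h3 := sum_by_deg F (fun j : IrrCharacter G => charDegree (j : G → ℂ)) _ hdF
    (fun j : IrrCharacter G => ((charDegree (j : G → ℂ) : ℤ)) ^ 2)
    (fun d => (d : ℤ) ^ 2) (fun _ _ => rfl)
  have hn1 : (F.filter (fun j : IrrCharacter G => charDegree (j : G → ℂ) = 1)).card = 1 := by
    rw [Finset.card_eq_one]
    refine ⟨oneIrr G, ?_⟩
    ext j
    simp only [Finset.mem_filter, Finset.mem_singleton]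
    constructor
    · rintro ⟨-, hj⟩
      by_contra hj1
      have := Cfsg.Agent.Lib.ExcP.Kill.two_le_degree hG j hj1
      omega
    · rintro rfl
      exact ⟨hone, deg_oneIrr⟩
  -- squares
  have hsq : ∑ j ∈ F, charDegree (j : G → ℂ) ^ 2 + D₀ ^ 2 + D₀ ^ 2 ≤ 7920 := by
    have h10 : μ 0 ∉ F := by
      rw [hF, Finset.mem_filter]
      simp [hzμ]
    have h11 : μ 1 ∉ insert (μ 0) F := by
      rw [Finset.mem_insert, not_or]
      refine ⟨fun h => ?_, ?_⟩
      · have := hinj h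
        simp at this
      · rw [hF, Finset.mem_filter]
        simp [hzμ]
    have h12 := Finset.sum_le_sum_of_subset (s := insert (μ 1) (insert (μ 0) F))
      (t := Finset.univ) (f := fun χ : IrrCharacter G => charDegree (χ : G → ℂ) ^ 2)
      (Finset.subset_univ _)
    rw [Finset.sum_insert h11, Finset.sum_insert h10, sum_charDegree_sq, hN, hdegμ, hdegμ] at h12
    omega
  have hsq' : ∑ j ∈ F, (charDegree (j : G → ℂ) : ℤ) ^ 2 + (D₀ : ℤ) ^ 2 + (D₀ : ℤ) ^ 2 ≤ 7920 := by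
    exact_mod_cast hsq
  rw [hsumF] at h1
  rw [hcard] at h2
  rw [h3] at hsq'
  simp only [Finset.mem_insert, Finset.mem_singleton, not_false_eq_true,
    Finset.sum_insert, Finset.sum_singleton, OfNat.one_ne_ofNat, or_self, Nat.reduceEqDiff] at h1 h2 hsq'
  rw [hn1] at h1 h2 hsq'
  norm_num at h1 hsq'
  set a := (F.filter (fun j : IrrCharacter G => charDegree (j : G → ℂ) = 10)).card with ha
  set b := (F.filter (fun j : IrrCharacter G => charDegree (j : G → ℂ) = 12)).card with hb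
  set c := (F.filter (fun j : IrrCharacter G => charDegree (j : G → ℂ) = 45)).card with hc
  have hD0 : D₀ ∣ 7920 := by
    rw [← hN, ← hdegμ 0]
    exact charDegree_dvd_card (μ 0).2
  have h11' : (11 : ℤ) ∣ (D₀ : ℤ) - 5 * ε := by
    have := hD₀
    push_cast at this
    exact this
  have hE' : -1 + 10 * (a : ℤ) - 12 * b - 45 * c + ε * D₀ = 0 := by
    rw [h1] at hE1
    linarith
  have hsq'' : 1 + 100 * a + 144 * b + 2025 * c + 2 * D₀ ^ 2 ≤ 7920 := by
    have : 1 + 100 * (a : ℤ) + 144 * b + 2025 * c + 2 * (D₀ : ℤ) ^ 2 ≤ 7920 := by linarith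
    exact_mod_cast this
  have hout := enum hε (by omega) hE' hsq'' hD0 h11'
  have hε1 : ε = 1 := by
    rcases hout with h | h <;> exact h.1
  subst hε1
  refine ⟨D₀, z, μ, hinj, hzμ, hdegμ, hzone, hdegs, hcard, ?_, ?_, ?_, ?_⟩
  · intro j hj hk
    apply dvd_degree_of_Ak hP hp2 j
    intro κ hκ
    rw [← classInner_Th_of_self hP hCP κ j, hinner κ hκ j hk, hj]
    simp
  · intro i g hg
    have := hE i g hg
    simpa using this
  · intro j hk u hu hu1
    apply conj_value_of_Ak hP hp2 (j : G → ℂ) _ hu hu1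
    intro κ hκ
    rw [← classInner_Th_of_self hP hCP κ j, hinner κ hκ j hk]
  · have hex : ∀ d, 0 < (F.filter (fun j : IrrCharacter G => charDegree (j : G → ℂ) = d)).card →
        ∃ j : IrrCharacter G, charDegree (j : G → ℂ) = d := by
      intro d hd
      obtain ⟨j, hj⟩ := Finset.card_pos.mp hd
      exact ⟨j, (Finset.mem_filter.mp hj).2⟩
    rcases hout with ⟨-, h, h1, -, -⟩ | ⟨-, h, h1, h2, -⟩
    · exact Or.inl ⟨h, hex 10 (by omega)⟩
    · exact Or.inr ⟨h, hex 10 (by omega), hex 12 (by omega)⟩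

end Cfsg.Agent.Lib.Ord7920.Stage11
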