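import Cfsg.Agent.Lib.Ord7920.Stage11

/-!
# Simple groups of order 7920: the prime 5, and the list of degrees
-/

set_option autoImplicit false
set_option linter.unusedSectionVars false

namespace Cfsg.Agent.Lib.Ord7920.Stage5

open Cfsg Module
open Cfsg.Agent.Lib.Char.Basic Cfsg.Agent.Lib.Char.Ortho Cfsg.Agent.Lib.Char.Degree
open Cfsg.Agent.Lib.ExcP.Gram Cfsg.Agent.Lib.ExcP.Dual Cfsg.Agent.Lib.ExcP.Inst
open Cfsg.Agent.Lib.ExcP.BlockHA Cfsg.Agent.Lib.ExcP.Core
open Cfsg.Agent.Lib.ModRep.Struct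
open Cfsg.Agent.Lib.Ord7920.Values Cfsg.Agent.Lib.Ord7920.Step11 Cfsg.Agent.Lib.Ord7920.Stage11
open scoped ComplexConjugate

universe u

variable {G : Type u} [Group G] [Fintype G] [IsSimpleGroup G] [Fintype (IrrCharacter G)]

/-- An involution does not commute with an element of order 5 when there is a character of degree 10. -/
theorem no_invol (hN : Nat.card G = 7920) (j : IrrCharacter G)
    (hj : charDegree (j : G → ℂ) = 10) {y : G} (hy : y ≠ 1) (hy2 : y ^ 2 = 1)
    (h5 : 5 ∣ Nat.card (Subgroup.centralizer ({y} : Set G))) : False := by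
  classical
  have hG := not_comm hN
  obtain ⟨m, hm⟩ := involution_value hG j hy2
  rw [hj] at hm
  have hv : (j : G → ℂ) y = ((10 - 4 * (m : ℤ) : ℤ) : ℂ) := by
    rw [hm]
    push_cast
    ring
  have h1 := deg_dvd_of_int_value j y hv
  rw [hj] at h1
  have h2 : ¬ 5 ∣ (Subgroup.centralizer ({y} : Set G)).index := by
    intro h3
    have h4 := (Subgroup.centralizer ({y} : Set G)).card_mul_index
    rw [hN] at h4
    have h6 : 5 * 5 ∣ 7920 := by
      rw [← h4]
      exact mul_dvd_mul h5 h3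
    norm_num at h6
  have h3 : (5 : ℤ) ∣ 10 - 4 * (m : ℤ) := by
    have h4 : (5 : ℤ) ∣ ((Subgroup.centralizer ({y} : Set G)).index : ℤ) * (10 - 4 * (m : ℤ)) :=
      Dvd.dvd.trans (by norm_num) h1
    have h5' : Prime (5 : ℤ) := by
      rw [Int.prime_iff_natAbs_prime]
      norm_num
    rcases h5'.dvd_or_dvd h4 with h6 | h6
    · exfalso
      apply h2
      exact_mod_cast h6
    · exact h6
  have hle := norm_le_charDegree (isCharacter_of_isIrrCharacter j.2) y
  rw [hj, hv] at hle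
  have hle' : |(10 - 4 * (m : ℤ))| ≤ 10 := by
    have : ‖((10 - 4 * (m : ℤ) : ℤ) : ℂ)‖ = ((|10 - 4 * (m : ℤ)| : ℤ) : ℝ) := by
      rw [Complex.norm_intCast]
      push_cast
      rfl
    rw [this] at hle
    exact_mod_cast hle
  rw [abs_le] at hle'
  have hval : 10 - 4 * (m : ℤ) = 10 ∨ 10 - 4 * (m : ℤ) = -10 := by omega
  have hj1 : j ≠ oneIrr G := by
    rintro rfl
    rw [deg_oneIrr] at hj
    omega
  apply norm_ne_degree hG j hj1 hy
  rw [hj, hv, Complex.norm_intCast]
  rcases hval with h | h <;> rw [h] <;> norm_num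

/-- The centralizer of a subgroup of order 5. -/
theorem card_five (hN : Nat.card G = 7920) (j : IrrCharacter G)
    (hj : charDegree (j : G → ℂ) = 10) {Q : Subgroup G} (hQ : Nat.card Q = 5) :
    Nat.card (Cn Q) = 5 ∧ Nat.card (Nn Q) = 20 := by
  classical
  haveI hp5 : Fact (Nat.Prime 5) := ⟨by norm_num⟩
  haveI hp2' : Fact (Nat.Prime 2) := ⟨by norm_num⟩
  haveI hp11 : Fact (Nat.Prime 11) := ⟨by norm_num⟩
  have hG := not_comm hN
  have hp2 : ¬ 5 ^ 2 ∣ Nat.card G := by rw [hN]; norm_num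
  have hpd : 5 ∣ Nat.card G := by rw [hN]; norm_num
  obtain ⟨e, n, he, hed, he1, hn, hnm, hpC⟩ := index_data hG hQ hp2 hpd
  have hnot2 : ¬ 2 ∣ Nat.card (Cn Q) := by
    intro h2
    obtain ⟨y, hy⟩ := exists_prime_orderOf_dvd_card' (G := Cn Q) 2 h2
    have hy1 : (y : G) ≠ 1 := by
      intro h
      have h3 : y = 1 := Subtype.ext h
      rw [h3, orderOf_one] at hy
      omega
    have hy2 : (y : G) ^ 2 = 1 := by
      have h3 : y ^ 2 = 1 := by
        rw [← hy]
        exact pow_orderOf_eq_one y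
      exact_mod_cast congrArg Subtype.val h3
    apply no_invol hN j hj hy1 hy2
    rw [← hQ]
    apply Subgroup.card_dvd_of_le
    intro u hu
    rw [Subgroup.mem_centralizer_singleton_iff]
    have h3 := y.2
    rw [Subgroup.mem_centralizer_iff] at h3
    exact (h3 u hu)
  have hnot11 : ¬ 11 ∣ Nat.card (Cn Q) := by
    intro h2
    obtain ⟨x, hx⟩ := exists_prime_orderOf_dvd_card' (G := Cn Q) 11 h2
    have hx' : orderOf (x : G) = 11 := by
      rw [Subgroup.orderOf_coe, hx]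
    have hP : Nat.card (Subgroup.zpowers (x : G)) = 11 := by
      rw [Nat.card_zpowers, hx']
    have h3 := card_centralizer hN hP
    have h4 : Q ≤ Cn (Subgroup.zpowers (x : G)) := by
      intro u hu
      rw [Subgroup.mem_centralizer_iff]
      intro w hw
      obtain ⟨k, rfl⟩ := Subgroup.mem_zpowers_iff.mp hw
      have h5 := x.2
      rw [Subgroup.mem_centralizer_iff] at h5
      have h6 : Commute (x : G) u := (h5 u hu).symm
      exact (h6.zpow_left k)
    have h5 := Subgroup.card_dvd_of_le h4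
    rw [hQ, h3] at h5
    norm_num at h5
  have hCd : Nat.card (Cn Q) ∣ 7920 := hN ▸ Subgroup.card_subgroup_dvd_card (Cn Q)
  have hC : Nat.card (Cn Q) = 5 ∨ Nat.card (Cn Q) = 15 ∨ Nat.card (Cn Q) = 45 := by
    have h1 : Nat.Coprime (Nat.card (Cn Q)) 2 :=
      ((Nat.Prime.coprime_iff_not_dvd (by norm_num)).mpr hnot2).symm
    have h2 : Nat.Coprime (Nat.card (Cn Q)) 11 :=
      ((Nat.Prime.coprime_iff_not_dvd (by norm_num)).mpr hnot11).symm
    have h3 : Nat.Coprime (Nat.card (Cn Q)) (2 ^ 4 * 11) := Nat.Coprime.mul_right (h1.pow_right 4) h2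
    have h4 : Nat.card (Cn Q) ∣ 45 := by
      apply h3.dvd_of_dvd_mul_left
      rw [show 2 ^ 4 * 11 * 45 = 7920 by norm_num]
      exact hCd
    have hle := Nat.le_of_dvd (by norm_num) h4
    generalize Nat.card (Cn Q) = c at hpC h4 hle
    interval_cases c <;> omega
  rw [he, hN] at hn
  have hele : e ≤ 4 := Nat.le_of_dvd (by norm_num) hed
  have he0 : e ≠ 0 := by
    rintro rfl
    omega
  have he3 : e ≠ 3 := by
    rintro rfl
    revert hed
    decide
  have hee : e = 2 ∨ e = 4 := by omega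
  have hfin : e = 4 ∧ Nat.card (Cn Q) = 5 := by
    rcases hC with hc | hc | hc <;> rcases hee with rfl | rfl <;> rw [hc] at hn <;>
      first | omega | exact ⟨rfl, hc⟩
  rw [he, hfin.1, hfin.2]
  exact ⟨rfl, rfl⟩

/-- The principal 5-block. -/
theorem stage5 (hN : Nat.card G = 7920) (j : IrrCharacter G)
    (hj : charDegree (j : G → ℂ) = 10) {Q : Subgroup G} (hQ : Nat.card Q = 5) :
    ∃ a : IrrCharacter G → ℤ, (∀ j, a j ≠ 0 → a j = 1 ∨ a j = -1) ∧
      (Finset.univ.filter (fun j => a j ≠ 0)).card = 5 ∧ a (oneIrr G) = -1 ∧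
      (∀ j : IrrCharacter G, a j ≠ 0 → (5 : ℤ) ∣ (charDegree (j : G → ℂ) : ℤ) + a j) ∧
      (∀ g, ¬ 5 ∣ orderOf g → ∑ j : IrrCharacter G, (a j : ℂ) * (j : G → ℂ) g = 0) ∧
      (∀ j : IrrCharacter G, a j = 0 → 5 ∣ charDegree (j : G → ℂ)) := by
  classical
  haveI hp5 : Fact (Nat.Prime 5) := ⟨by norm_num⟩
  have hp2 : ¬ 5 ^ 2 ∣ Nat.card G := by rw [hN]; norm_num
  letI : Fintype Q := Fintype.ofFinite _
  haveI := finite_DD (p := 5) (P := Q) hQ hp2
  letI : Fintype (DD Q 5) := Fintype.ofFinite _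
  obtain ⟨M, hM⟩ := Cfsg.Agent.Lib.BlockH.Basic.exists_isPModular (p := 5) (by norm_num)
  obtain ⟨hCc, hNc⟩ := card_five hN j hj hQ
  have hCQ : Cn Q = Q := (Subgroup.eq_of_le_of_card_ge (le_centralizer hQ) (by rw [hCc, hQ])).symm
  obtain ⟨a, -, ha, hcard, haone, hadeg, hE, hinner⟩ :=
    Cfsg.Agent.Lib.Ord7920.B0.small hM hQ hp2 4 (by rw [hNc, hCc]) (by norm_num)
  refine ⟨a, ha, by simpa using hcard, haone, ?_, hE, ?_⟩
  · intro j hj
    have := hadeg j hj
    push_cast at this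
    exact this
  · intro j hj
    apply dvd_degree_of_Ak hQ hp2 j
    intro κ hκ
    rw [← classInner_Th_of_self hQ hCQ κ j, hinner κ hκ j, hj]
    simp

end Cfsg.Agent.Lib.Ord7920.Stage5
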