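import Cfsg.Agent.Lib.Ord7920.Values
import Cfsg.Agent.Lib.Small.Sieve

/-!
# Simple groups of order 7920: the prime 11
-/

set_option autoImplicit false
set_option linter.unusedSectionVars false

namespace Cfsg.Agent.Lib.Ord7920.Step11

open Cfsg Module
open Cfsg.Agent.Lib.Char.Basic Cfsg.Agent.Lib.Char.Ortho Cfsg.Agent.Lib.Char.Degree
open Cfsg.Agent.Lib.ExcP.Gram Cfsg.Agent.Lib.ExcP.Dual Cfsg.Agent.Lib.ExcP.Inst
open Cfsg.Agent.Lib.ExcP.BlockHA Cfsg.Agent.Lib.ExcP.Core
open Cfsg.Agent.Lib.ModRep.Struct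
open Cfsg.Agent.Lib.Ord7920.Values
open scoped ComplexConjugate

universe u

section Sums

variable {ι : Type*} [DecidableEq ι]

/-- Summing over the fibres of the degree map. -/
theorem sum_by_deg (F : Finset ι) (deg : ι → ℕ) (D : Finset ℕ) (hD : ∀ j ∈ F, deg j ∈ D)
    (W : ι → ℤ) (W' : ℕ → ℤ) (hW : ∀ j ∈ F, W j = W' (deg j)) :
    ∑ j ∈ F, W j = ∑ d ∈ D, ((F.filter (fun j => deg j = d)).card : ℤ) * W' d := by
  rw [← Finset.sum_fiberwise_of_maps_to hD]
  refine Finset.sum_congr rfl fun d _ => ?_
  rw [Finset.sum_congr rfl (g := fun _ => W' d), Finset.sum_const, nsmul_eq_mul]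
  intro j hj
  rw [Finset.mem_filter] at hj
  rw [hW j hj.1, hj.2]

/-- The cardinality version. -/
theorem card_by_deg (F : Finset ι) (deg : ι → ℕ) (D : Finset ℕ) (hD : ∀ j ∈ F, deg j ∈ D) :
    F.card = ∑ d ∈ D, (F.filter (fun j => deg j = d)).card :=
  Finset.card_eq_sum_card_fiberwise hD

end Sums

section Gen

variable {G : Type u} [Group G] [Fintype G] {p : ℕ} [hp : Fact p.Prime] {P : Subgroup G}

theorem irr_one (j : IrrCharacter G) : (j : G → ℂ) 1 = (charDegree (j : G → ℂ) : ℂ) :=
  (charDegree_natCast (isCharacter_of_isIrrCharacter j.2)).symm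

/-- The Sylow data attached to a subgroup of prime order. -/
theorem index_data [IsSimpleGroup G] (hG : ¬ IsMulCommutative G) (hP : Nat.card P = p)
    (hp2 : ¬ p ^ 2 ∣ Nat.card G) (hpd : p ∣ Nat.card G) :
    ∃ e n : ℕ, Nat.card (Nn P) = e * Nat.card (Cn P) ∧ e ∣ p - 1 ∧ e ≠ 1 ∧
      n * Nat.card (Nn P) = Nat.card G ∧ n % p = 1 ∧ p ∣ Nat.card (Cn P) := by
  classical
  obtain ⟨e, he, hed⟩ := Cfsg.Agent.Lib.ExcP.Local.exists_index hP
  have hPp : IsPGroup p P := IsPGroup.of_card (n := 1) (by rw [hP, pow_one])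
  have hndvd : ¬ p ∣ P.index := by
    intro h1
    apply hp2
    have h2 := P.card_mul_index
    rw [hP] at h2
    rw [← h2, pow_two]
    exact mul_dvd_mul_left p h1
  let S : Sylow p G := hPp.toSylow hndvd
  have hS : (S : Subgroup G) = P := IsPGroup.toSylow_coe hPp hndvd
  refine ⟨e, Nat.card (Sylow p G), he, hed, ?_, ?_, ?_, ?_⟩
  · rintro rfl
    have h1 := Cfsg.Agent.Lib.Small.Basic.normalizer_not_le_centralizer hG p hpd S
    rw [hS] at h1
    apply h1
    have hle : Cn P ≤ Nn P := Subgroup.centralizer_le_normalizer _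
    have h2 : Nat.card (Nn P) ≤ Nat.card (Cn P) := by omega
    have h3 := Subgroup.eq_of_le_of_card_ge hle h2
    exact le_of_eq h3.symm
  · have h1 := Cfsg.Agent.Lib.Small.Sieve.card_normalizer_mul S
    rw [hS] at h1
    rw [mul_comm]
    exact h1
  · have h := card_sylow_modEq_one p G
    have hp1 : 1 < p := hp.out.one_lt
    have : 1 % p = 1 := Nat.mod_eq_of_lt hp1
    rw [Nat.ModEq, this] at h
    exact h
  · rw [← hP]
    exact Subgroup.card_dvd_of_le (le_centralizer hP)

/-- A character with a non-zero value of the inner products lies in the principal block. -/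
theorem mem_block_of_inner {M : Ideal AlgInt} (hM : IsPModular p M) [Fintype P] (hP : Nat.card P = p)
    (hp2 : ¬ p ^ 2 ∣ Nat.card G) (hodd : 2 < p) (j : IrrCharacter G) {z : ℤ} (hz : z ≠ 0)
    (h : ∀ κ, IsD P p κ → classInner (Th P κ) (j : G → ℂ) = (z : ℂ)) : j ∈ principalBlock M G := by
  classical
  obtain ⟨hno, -⟩ := dichotomy_at hM hP hp2 j
  have := finite_DD (p := p) (P := P) hP hp2
  letI : Fintype (DD P p) := Fintype.ofFinite _
  have hcardD : Fintype.card (DD P p) = p - 1 := by
    rw [← Nat.card_eq_fintype_card, card_DD hP hp2]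
  obtain ⟨κ₀⟩ : Nonempty (DD P p) := by
    apply Fintype.card_pos_iff.mp
    omega
  by_contra hcon
  have h1 := hno hcon κ₀.1 κ₀.2
  rw [h κ₀.1 κ₀.2] at h1
  exact hz (by exact_mod_cast h1)

/-- The degrees are bounded by the square root of the order. -/
theorem deg_sq_le [Fintype (IrrCharacter G)] (j : IrrCharacter G) :
    charDegree (j : G → ℂ) ^ 2 ≤ Nat.card G := by
  rw [← sum_charDegree_sq]
  exact Finset.single_le_sum (f := fun χ : IrrCharacter G => charDegree (χ : G → ℂ) ^ 2)
    (fun _ _ => Nat.zero_le _) (Finset.mem_univ j)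

/-- The degree of the principal character. -/
theorem deg_oneIrr : charDegree ((oneIrr G : IrrCharacter G) : G → ℂ) = 1 := by
  apply charDegree_eq_of_eq_natCast
  simp [oneIrr]

end Gen

section Main

variable {G : Type u} [Group G] [Fintype G] [IsSimpleGroup G] [Fintype (IrrCharacter G)]

theorem not_comm (hN : Nat.card G = 7920) : ¬ IsMulCommutative G :=
  Cfsg.Agent.Lib.Small.Basic.not_comm_of_not_prime (by rw [hN]; norm_num)

/-- Numerical facts on a degree in the principal block for the prime 11 when `C(P)` is large. -/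
theorem deg_cases_big {d : ℕ} {s : ℤ} (hd : d ∣ 7920) (hsq : d ^ 2 ≤ 7920) (h11 : 11 ≤ d)
    (hs : s = 1 ∨ s = -1) (hm : (11 : ℤ) ∣ (d : ℤ) + s) : (d = 12 ∨ d = 45) ∧ s = -1 := by
  have hle : d ≤ 88 := by nlinarith
  have hchk : ∀ d ∈ List.range 89, ∀ s ∈ [(1 : ℤ), -1], (7920 % d == 0 && decide (11 ≤ d) &&
      decide (((d : ℤ) + s) % 11 = 0)) = true → ((d == 12 || d == 45) && s == -1) = true := by
    decide +kernel
  have h1 := hchk d (List.mem_range.mpr (by omega)) s (by rcases hs with rfl | rfl <;> simp) (by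
    simp only [Bool.and_eq_true, beq_iff_eq, decide_eq_true_eq]
    exact ⟨⟨Nat.mod_eq_zero_of_dvd hd, h11⟩, Int.emod_eq_zero_of_dvd hm⟩)
  simpa using h1

/-- When the centralizer is large, there is no room for the principal block. -/
theorem card_centralizer (hN : Nat.card G = 7920) {P : Subgroup G} (hP : Nat.card P = 11) :
    Nat.card (Cn P) = 11 := by
  classical
  haveI hp11 : Fact (Nat.Prime 11) := ⟨by norm_num⟩
  have hG := not_comm hN
  have hp2 : ¬ 11 ^ 2 ∣ Nat.card G := by rw [hN]; norm_num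
  have hpd : 11 ∣ Nat.card G := by rw [hN]; norm_num
  letI : Fintype P := Fintype.ofFinite _
  obtain ⟨M, hM⟩ := Cfsg.Agent.Lib.BlockH.Basic.exists_isPModular (p := 11) (by norm_num)
  obtain ⟨e, n, he, hed, he1, hn, hnm, hpC⟩ := index_data hG hP hp2 hpd
  by_contra hC
  have hC' : 11 < Nat.card (Cn P) := by
    have h1 := Nat.le_of_dvd Nat.card_pos hpC
    omega
  -- degrees in the block
  have hdeg : ∀ (j : IrrCharacter G) (s : ℤ), (s = 1 ∨ s = -1) → j ∈ principalBlock M G →
      j ≠ oneIrr G → (11 : ℤ) ∣ (charDegree (j : G → ℂ) : ℤ) + s →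
      (charDegree (j : G → ℂ) = 12 ∨ charDegree (j : G → ℂ) = 45) ∧ s = -1 := by
    intro j s hs hj hj1 hm
    have h1 := deg_ge hP hp2 hM hC' hj hj1
    have h2 := deg_sq_le j
    rw [hN] at h2
    have h3 := charDegree_dvd_card j.2
    rw [hN] at h3
    exact deg_cases_big h3 h2 h1 hs hm
  have hedcases : e = 2 ∨ e = 5 ∨ e = 10 := by
    have h1 : e ≤ 10 := Nat.le_of_dvd (by norm_num) hed
    interval_cases e <;> simp_all (config := { decide := true })
  by_cases hlt : e < 11 - 1
  · obtain ⟨ε, t, D₀, z, μ, hε, hte, ht2, hz, hcard, hzone, hzdeg, hD₀, hinj, hzμ, hdegμ, hE, hinner⟩ :=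
      Cfsg.Agent.Lib.Ord7920.B0.large hM hP hp2 e he hlt
    have hzb : ∀ j, z j ≠ 0 → j ∈ principalBlock M G := by
      intro j hj
      apply mem_block_of_inner hM hP hp2 (by norm_num) j hj
      intro κ hκ
      apply hinner κ hκ j
      intro k hk
      apply hj
      rw [← hk, hzμ]
    -- the equation at the identity
    obtain ⟨i₀⟩ : Nonempty (Fin t) := ⟨⟨0, by omega⟩⟩
    have hE1 : ∑ j, z j * (charDegree (j : G → ℂ) : ℤ) + ε * (D₀ : ℤ) = 0 := by
      have h1 := hE i₀ 1 (by simp)
      simp only [irr_one, hdegμ] at h1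
      exact_mod_cast h1
    -- the sum on the filter
    set F := Finset.univ.filter (fun j => z j ≠ 0) with hF
    have hsumF : ∑ j ∈ F, z j * (charDegree (j : G → ℂ) : ℤ) =
        ∑ j, z j * (charDegree (j : G → ℂ) : ℤ) := by
      apply Finset.sum_filter_of_ne
      intro j _ hj
      exact left_ne_zero_of_mul hj
    have hone : oneIrr G ∈ F := by
      rw [hF, Finset.mem_filter]
      exact ⟨Finset.mem_univ _, by rw [hzone]; norm_num⟩
    have hdF : ∀ j ∈ F, charDegree (j : G → ℂ) ∈ ({1, 12, 45} : Finset ℕ) := by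
      intro j hj
      rw [hF, Finset.mem_filter] at hj
      by_cases hj1 : j = oneIrr G
      · rw [hj1, deg_oneIrr]
        simp
      · have h1 := hdeg j (z j) (hz j hj.2) (hzb j hj.2) hj1 (hzdeg j hj.2)
        rcases h1.1 with h2 | h2 <;> rw [h2] <;> simp
    have hzF : ∀ j ∈ F, z j * (charDegree (j : G → ℂ) : ℤ) =
        (fun d : ℕ => -(d : ℤ)) (charDegree (j : G → ℂ)) := by
      intro j hj
      rw [hF, Finset.mem_filter] at hj
      by_cases hj1 : j = oneIrr G
      · rw [hj1, hzone, deg_oneIrr]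
        norm_num
      · have h1 := hdeg j (z j) (hz j hj.2) (hzb j hj.2) hj1 (hzdeg j hj.2)
        simp only [h1.2]
        ring
    have h1 := sum_by_deg F (fun j : IrrCharacter G => charDegree (j : G → ℂ)) _ hdF
      (fun j : IrrCharacter G => z j * (charDegree (j : G → ℂ) : ℤ)) (fun d => -(d : ℤ)) hzF
    have h2 := card_by_deg F _ _ hdF
    have hn1 : (F.filter (fun j : IrrCharacter G => charDegree (j : G → ℂ) = 1)).card = 1 := by
      rw [Finset.card_eq_one]
      refine ⟨oneIrr G, ?_⟩
      ext j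
      simp only [Finset.mem_filter, Finset.mem_singleton]
      constructor
      · rintro ⟨-, hj⟩
        by_contra hj1
        have := Cfsg.Agent.Lib.ExcP.Kill.two_le_degree hG j hj1
        omega
      · rintro rfl
        exact ⟨hone, deg_oneIrr⟩
    rw [hsumF] at h1
    rw [hcard] at h2
    simp only [Finset.mem_insert, Finset.mem_singleton, not_false_eq_true,
      Finset.sum_insert, Finset.sum_singleton, OfNat.one_ne_ofNat, or_self,
      Nat.reduceEqDiff] at h1 h2
    rw [hn1] at h1 h2
    generalize (F.filter (fun j : IrrCharacter G => charDegree (j : G → ℂ) = 12)).card = a at h1 h2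
    generalize (F.filter (fun j : IrrCharacter G => charDegree (j : G → ℂ) = 45)).card = b at h1 h2
    rw [h1] at hE1
    push_cast at hE1
    -- the degree `D₀`
    have hD0 : D₀ ∣ 7920 := by
      rw [← hN, ← hdegμ i₀]
      exact charDegree_dvd_card (μ i₀).2
    have hD1 : D₀ ^ 2 ≤ 7920 := by
      rw [← hN, ← hdegμ i₀]
      exact deg_sq_le _
    have hD2 : D₀ ≤ 88 := by nlinarith
    have hεD : (D₀ : ℤ) = 1 + 12 * a + 45 * b := by
      rcases hε with rfl | rfl
      · linarith
      · exfalso
        have : (0 : ℤ) ≤ a := Int.natCast_nonneg _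
        have : (0 : ℤ) ≤ b := Int.natCast_nonneg _
        have : (0 : ℤ) ≤ D₀ := Int.natCast_nonneg _
        linarith
    have hD3 : D₀ = 1 + 12 * a + 45 * b := by exact_mod_cast hεD
    subst hD3
    rcases hedcases with rfl | rfl | rfl
    · have : a + b = 1 := by omega
      have hb : b ≤ 1 := by omega
      interval_cases b
      · have : a = 1 := by omega
        subst this
        norm_num at hD0
      · have : a = 0 := by omega
        subst this
        norm_num at hD0
    · have : a + b = 4 := by omega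
      have hb : b ≤ 1 := by omega
      interval_cases b
      · have : a = 4 := by omega
        subst this
        norm_num at hD0
      · have : a = 3 := by omega
        subst this
        norm_num at hD0
    · omega
  · obtain ⟨a, he10, ha, hcard, haone, hadeg, hE, hinner⟩ :=
      Cfsg.Agent.Lib.Ord7920.B0.small hM hP hp2 e he hlt
    have hE1 : ∑ j, a j * (charDegree (j : G → ℂ) : ℤ) = 0 := by
      have h1 := hE 1 (by simp)
      simp only [irr_one] at h1
      exact_mod_cast h1
    have hzb : ∀ j, a j ≠ 0 → j ∈ principalBlock M G := by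
      intro j hj
      exact mem_block_of_inner hM hP hp2 (by norm_num) j hj (fun κ hκ => hinner κ hκ j)
    have hneg : ∀ j, a j * (charDegree (j : G → ℂ) : ℤ) ≤ 0 := by
      intro j
      by_cases hj0 : a j = 0
      · rw [hj0]
        simp
      · by_cases hj1 : j = oneIrr G
        · rw [hj1, haone]
          simp
        · have h1 := hdeg j (a j) (ha j hj0) (hzb j hj0) hj1 (hadeg j hj0)
          rw [h1.2]
          have : (0 : ℤ) ≤ charDegree (j : G → ℂ) := Int.natCast_nonneg _
          linarith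
    have h2 : a (oneIrr G) * (charDegree ((oneIrr G : IrrCharacter G) : G → ℂ) : ℤ) < 0 := by
      rw [haone, deg_oneIrr]
      norm_num
    have h3 := Finset.sum_lt_sum (s := Finset.univ) (fun j _ => hneg j)
      ⟨oneIrr G, Finset.mem_univ _, h2⟩
    rw [hE1] at h3
    simp at h3

end Main

end Cfsg.Agent.Lib.Ord7920.Step11
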