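import Cfsg.Agent.Lib.Ord7920.Three
import Cfsg.Agent.Lib.SmallSimple.G168

/-!
# Simple groups of order 7920: normalizers of Sylow 3-subgroups
-/

set_option autoImplicit false
set_option linter.unusedSectionVars false

namespace Cfsg.Agent.Lib.Ord7920.Syl3

open Cfsg Module
open Cfsg.Agent.Lib.Char.Basic Cfsg.Agent.Lib.Char.Ortho Cfsg.Agent.Lib.Char.Degree
open Cfsg.Agent.Lib.ExcP.Gram Cfsg.Agent.Lib.ExcP.Core
open Cfsg.Agent.Lib.Ord7920.Values Cfsg.Agent.Lib.Ord7920.Step11 Cfsg.Agent.Lib.Ord7920.Data
open Cfsg.Agent.Lib.Ord7920.InvolC Cfsg.Agent.Lib.Ord7920.Three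

universe u

variable {G : Type u} [Group G] [Finite G]

/-- An element of prime order normalizing a group of order 9 centralizes a non-trivial element of it. -/
theorem exists_commuting {T : Subgroup G} (hT : Nat.card T = 9) {r : ℕ} [hr : Fact r.Prime]
    (hr9 : 9 % r ≠ 1) {u : G} (hu : u ∈ Nn T) (hur : orderOf u = r) :
    ∃ v ∈ T, v ≠ 1 ∧ u * v = v * u := by
  classical
  set H : Subgroup G := Subgroup.zpowers u with hH
  have hHN : H ≤ Nn T := by
    rw [hH, Subgroup.zpowers_le]
    exact hu
  have hinv : ∀ g ∈ H, ∀ v ∈ T, g * v * g⁻¹ ∈ T := by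
    intro g hg v hv
    exact (Subgroup.mem_set_normalizer_iff.mp (hHN hg) v).mp hv
  letI : MulAction H T :=
    { smul := fun g v => ⟨(g : G) * v * (g : G)⁻¹, hinv g g.2 v v.2⟩
      one_smul := fun v => by
        apply Subtype.ext
        show ((1 : H) : G) * v * ((1 : H) : G)⁻¹ = v
        simp
      mul_smul := fun a b v => by
        apply Subtype.ext
        show ((a * b : H) : G) * v * ((a * b : H) : G)⁻¹ =
          (a : G) * ((b : G) * v * (b : G)⁻¹) * (a : G)⁻¹
        simp only [Subgroup.coe_mul]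
        group }
  have hHp : IsPGroup r H := IsPGroup.of_card (n := 1) (by rw [hH, Nat.card_zpowers, hur, pow_one])
  have hmod := hHp.card_modEq_card_fixedPoints T
  rw [hT] at hmod
  have h1mem : (1 : T) ∈ MulAction.fixedPoints H T := by
    intro g
    apply Subtype.ext
    show (g : G) * ((1 : T) : G) * (g : G)⁻¹ = ((1 : T) : G)
    simp
  have hgt : 1 < Nat.card (MulAction.fixedPoints H T) := by
    have h2 : 0 < Nat.card (MulAction.fixedPoints H T) := by
      haveI : Nonempty (MulAction.fixedPoints H T) := ⟨⟨1, h1mem⟩⟩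
      exact Nat.card_pos
    have h3 : Nat.card (MulAction.fixedPoints H T) ≠ 1 := by
      intro h4
      rw [h4] at hmod
      have h5 : 1 % r = 1 := Nat.mod_eq_of_lt hr.out.one_lt
      apply hr9
      rw [Nat.ModEq, h5] at hmod
      exact hmod
    omega
  obtain ⟨⟨v, hv⟩, hv1⟩ : ∃ a : MulAction.fixedPoints H T, a ≠ ⟨1, h1mem⟩ := by
    haveI : Nontrivial (MulAction.fixedPoints H T) := (Finite.one_lt_card_iff_nontrivial).mp hgt
    exact exists_ne _
  refine ⟨v, v.2, ?_, ?_⟩
  · intro h
    apply hv1
    apply Subtype.ext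
    exact Subtype.ext h
  · have h2 := hv ⟨u, Subgroup.mem_zpowers u⟩
    have h3 : u * (v : G) * u⁻¹ = (v : G) := congrArg Subtype.val h2
    rw [mul_inv_eq_iff_eq_mul] at h3
    exact h3

/-- The double count. -/
theorem double_count [IsSimpleGroup G] {T : Subgroup G} (hT : Nat.card T = 9)
    (hTN : T ≤ Nn T)
    (hcomm : ∀ a ∈ T, ∀ b ∈ T, a * b = b * a)
    (hCT : Nat.card (Cn T) = 9)
    (hC : ∀ v ∈ T, v ≠ 1 → Nat.card (Subgroup.centralizer ({v} : Set G)) = 18)
    (hCN : ∀ v ∈ T, v ≠ 1 → Subgroup.centralizer ({v} : Set G) ≤ Nn T) :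
    45 ≤ Nat.card (Nn T) := by
  classical
  letI : Fintype G := Fintype.ofFinite G
  letI : Fintype T := Fintype.ofFinite _
  letI : Fintype (Nn T) := Fintype.ofFinite _
  have hTle : T ≤ Cn T := by
    intro a ha
    rw [Subgroup.mem_centralizer_iff]
    intro b hb
    exact hcomm b hb a ha
  have hTeq : Cn T = T := (Subgroup.eq_of_le_of_card_ge hTle (by rw [hCT, hT])).symm
  set r : T → Nn T → Prop := fun y n => ((n : G) * (y : G) = (y : G) * (n : G)) with hr
  have hdc := Finset.sum_card_bipartiteAbove_eq_sum_card_bipartiteBelow (s := (Finset.univ : Finset T))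
    (t := (Finset.univ : Finset (Nn T))) r
  -- the left side
  have hL : ∀ y : T, (if y = 1 then Nat.card (Nn T) else 18) ≤
      (Finset.univ.bipartiteAbove r y).card := by
    intro y
    by_cases hy : y = 1
    · rw [if_pos hy, Finset.bipartiteAbove]
      subst hy
      rw [Finset.filter_true_of_mem, Finset.card_univ, Nat.card_eq_fintype_card]
      intro n _
      simp [hr]
    · rw [if_neg hy]
      have hy' : (y : G) ≠ 1 := fun h => hy (Subtype.ext h)
      rw [← hC y y.2 hy', Finset.bipartiteAbove]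
      have : Nat.card (Subgroup.centralizer ({(y : G)} : Set G)) =
          Nat.card {n : Nn T // r y n} := by
        refine Nat.card_congr ⟨fun c => ⟨⟨c.1, hCN y y.2 hy' c.2⟩, ?_⟩,
          fun n => ⟨n.1.1, ?_⟩, fun c => rfl, fun n => rfl⟩
        · exact (Subgroup.mem_centralizer_singleton_iff.mp c.2)
        · exact (Subgroup.mem_centralizer_singleton_iff.mpr n.2)
      rw [this, Nat.card_eq_fintype_card, Fintype.card_subtype]
  -- the right side
  have hR : ∀ n : Nn T, (Finset.univ.bipartiteBelow r n).card ≤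
      3 + (if (n : G) ∈ T then 6 else 0) := by
    intro n
    rw [Finset.bipartiteBelow]
    have hcard : (Finset.univ.filter (fun y : T => r y n)).card =
        Nat.card ((Subgroup.centralizer ({(n : G)} : Set G)).subgroupOf T) := by
      rw [← Fintype.card_subtype, ← Nat.card_eq_fintype_card]
      refine Nat.card_congr (Equiv.subtypeEquivRight fun y => ?_)
      rw [Subgroup.mem_subgroupOf, Subgroup.mem_centralizer_singleton_iff]
      exact eq_comm
    rw [hcard]
    have hd : Nat.card ((Subgroup.centralizer ({(n : G)} : Set G)).subgroupOf T) ∣ 9 := by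
      rw [← hT]
      exact Subgroup.card_subgroup_dvd_card _
    by_cases hn : (n : G) ∈ T
    · rw [if_pos hn]
      have := Nat.le_of_dvd (by norm_num) hd
      omega
    · rw [if_neg hn]
      have hne : Nat.card ((Subgroup.centralizer ({(n : G)} : Set G)).subgroupOf T) ≠ 9 := by
        intro h9
        apply hn
        have htop : (Subgroup.centralizer ({(n : G)} : Set G)).subgroupOf T = ⊤ := by
          apply Subgroup.eq_top_of_card_eq
          rw [h9, hT]
        have h2 : (n : G) ∈ Cn T := by
          rw [Subgroup.mem_centralizer_iff]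
          intro b hb
          have h1 : (⟨b, hb⟩ : T) ∈ (Subgroup.centralizer ({(n : G)} : Set G)).subgroupOf T := by
            rw [htop]
            trivial
          exact Subgroup.mem_centralizer_singleton_iff.mp h1
        exact (le_of_eq hTeq) h2
      have hle := Nat.le_of_dvd (by norm_num) hd
      generalize Nat.card ((Subgroup.centralizer ({(n : G)} : Set G)).subgroupOf T) = m at hd hne hle
      interval_cases m <;> omega
  have hsumL : ∑ y : T, (if y = 1 then Nat.card (Nn T) else 18) ≤
      ∑ y : T, (Finset.univ.bipartiteAbove r y).card := Finset.sum_le_sum fun y _ => hL y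
  have hsumR : ∑ n : Nn T, (Finset.univ.bipartiteBelow r n).card ≤
      ∑ n : Nn T, (3 + (if (n : G) ∈ T then 6 else 0)) := Finset.sum_le_sum fun n _ => hR n
  rw [hdc] at hsumL
  have hcardT : Fintype.card T = 9 := by rw [← Nat.card_eq_fintype_card, hT]
  have hL' : ∑ y : T, (if y = 1 then Nat.card (Nn T) else 18) + 18 = 9 * 18 + Nat.card (Nn T) := by
    have h1 : ∀ y : T, (if y = 1 then Nat.card (Nn T) else 18) + (if y = 1 then 18 else 0) =
        18 + (if y = 1 then Nat.card (Nn T) else 0) := by
      intro y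
      split_ifs <;> omega
    have h2 := Finset.sum_congr rfl (fun y (_ : y ∈ (Finset.univ : Finset T)) => h1 y)
    rw [Finset.sum_add_distrib, Finset.sum_add_distrib, Finset.sum_ite_eq' Finset.univ (1 : T),
      Finset.sum_ite_eq' Finset.univ (1 : T), Finset.sum_const, Finset.card_univ, hcardT] at h2
    simp only [Finset.mem_univ, if_true, smul_eq_mul] at h2
    exact h2
  have hR' : ∑ n : Nn T, (3 + (if (n : G) ∈ T then 6 else 0)) = 3 * Nat.card (Nn T) + 6 * 9 := by
    rw [Finset.sum_add_distrib, Finset.sum_const, Finset.card_univ, smul_eq_mul,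
      ← Nat.card_eq_fintype_card, ← Finset.sum_filter, Finset.sum_const, smul_eq_mul]
    have h1 : (Finset.univ.filter (fun n : Nn T => (n : G) ∈ T)).card = 9 := by
      rw [← Fintype.card_subtype, ← Nat.card_eq_fintype_card, ← hT]
      refine Nat.card_congr ⟨fun n => ⟨n.1.1, n.2⟩, fun a => ⟨⟨a.1, hTN a.2⟩, a.2⟩,
        fun n => rfl, fun a => rfl⟩
    rw [h1]
    ring
  rw [hR'] at hsumR
  omega

variable [Fintype G] [IsSimpleGroup G] [Fintype (IrrCharacter G)]

/-- The normalizer of a subgroup of order 9. -/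
theorem card_normalizer (D : Chars G) (hN : Nat.card G = 7920) {T : Subgroup G} (hT : Nat.card T = 9) :
    Nat.card (Nn T) = 144 := by
  classical
  haveI hp2 : Fact (Nat.Prime 2) := ⟨by norm_num⟩
  haveI hp3 : Fact (Nat.Prime 3) := ⟨by norm_num⟩
  haveI hp5 : Fact (Nat.Prime 5) := ⟨by norm_num⟩
  haveI hp11 : Fact (Nat.Prime 11) := ⟨by norm_num⟩
  have hG := not_comm hN
  have hcommT : IsMulCommutative T :=
    IsPGroup.isMulCommutative_of_card_eq_prime_sq (p := 3) (by rw [hT]; norm_num)
  have hcomm : ∀ a ∈ T, ∀ b ∈ T, a * b = b * a := by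
    intro a ha b hb
    have h1 := hcommT.is_comm.comm ⟨a, ha⟩ ⟨b, hb⟩
    exact congrArg Subtype.val h1
  have hTle : T ≤ Cn T := by
    intro a ha
    rw [Subgroup.mem_centralizer_iff]
    intro b hb
    exact hcomm b hb a ha
  have hTN : T ≤ Nn T := Subgroup.le_normalizer
  have hord : ∀ v ∈ T, orderOf v ∣ 9 := by
    intro v hv
    have h1 := orderOf_dvd_natCard (⟨v, hv⟩ : T)
    rwa [Subgroup.orderOf_mk, hT] at h1
  -- an element of order 3
  obtain ⟨y₀, hy₀⟩ := exists_prime_orderOf_dvd_card' (G := T) 3 (by rw [hT]; norm_num)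
  have hy₀' : orderOf (y₀ : G) = 3 := by rw [Subgroup.orderOf_coe, hy₀]
  have hC18 := card_centralizer_three D hN hT y₀.2 hy₀'
  -- the centralizer of `T`
  have hCT : Nat.card (Cn T) = 9 := by
    have h1 : Cn T ≤ Subgroup.centralizer ({(y₀ : G)} : Set G) := by
      intro a ha
      rw [Subgroup.mem_centralizer_singleton_iff]
      have h2 := Subgroup.mem_centralizer_iff.mp ha y₀ y₀.2
      exact h2.symm
    have h2 := Subgroup.card_dvd_of_le h1
    rw [hC18] at h2
    have h3 : 9 ∣ Nat.card (Cn T) := by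
      rw [← hT]
      exact Subgroup.card_dvd_of_le hTle
    have h4 : ¬ 2 ∣ Nat.card (Cn T) := by
      intro h5
      obtain ⟨s, hs⟩ := exists_prime_orderOf_dvd_card' (G := Cn T) 2 h5
      have hs' : orderOf (s : G) = 2 := by rw [Subgroup.orderOf_coe, hs]
      have h6 := card_centralizer_invol D hN hs'
      have h7 : T ≤ Subgroup.centralizer ({(s : G)} : Set G) := by
        intro a ha
        rw [Subgroup.mem_centralizer_singleton_iff]
        exact Subgroup.mem_centralizer_iff.mp s.2 a ha
      have h8 := Subgroup.card_dvd_of_le h7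
      rw [hT, h6] at h8
      norm_num at h8
    have hle := Nat.le_of_dvd (by norm_num) h2
    generalize Nat.card (Cn T) = c at *
    interval_cases c <;> omega
  -- no elements of order 5, 11 in the normalizer
  have hnot : ∀ r : ℕ, ∀ _ : Fact r.Prime, (9 % r ≠ 1) → (¬ r ∣ 9) →
      (∀ Q : Subgroup G, Nat.card Q = r → Nat.card (Cn Q) = r) → ¬ r ∣ Nat.card (Nn T) := by
    intro r hr h9 hr9 hQ hd
    obtain ⟨u, hu⟩ := exists_prime_orderOf_dvd_card' (G := Nn T) r hd
    have hu' : orderOf (u : G) = r := by rw [Subgroup.orderOf_coe, hu]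
    obtain ⟨v, hv, hv1, hcm⟩ := exists_commuting hT h9 u.2 hu'
    have hrv : ¬ r ∣ orderOf v := fun h => hr9 (h.trans (hord v hv))
    apply no_prime_in_centralizer hQ hv1 hrv
    rw [← hu']
    have h1 := orderOf_dvd_natCard (⟨u, Subgroup.mem_centralizer_singleton_iff.mpr hcm⟩ :
      Subgroup.centralizer ({v} : Set G))
    rwa [Subgroup.orderOf_mk] at h1
  have h5 := hnot 5 hp5 (by norm_num) (by norm_num) (fun Q hQ => (Stage5.card_five hN D.A D.dA hQ).1)
  have h11 := hnot 11 hp11 (by norm_num) (by norm_num) (fun Q hQ => card_centralizer hN hQ)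
  have hdvd : Nat.card (Nn T) ∣ 7920 := hN ▸ Subgroup.card_subgroup_dvd_card _
  have hc144 : Nat.card (Nn T) ∣ 144 := by
    have h1 : Nat.Coprime (Nat.card (Nn T)) 5 :=
      ((Nat.Prime.coprime_iff_not_dvd (by norm_num)).mpr h5).symm
    have h2 : Nat.Coprime (Nat.card (Nn T)) 11 :=
      ((Nat.Prime.coprime_iff_not_dvd (by norm_num)).mpr h11).symm
    have h3 : Nat.Coprime (Nat.card (Nn T)) (5 * 11) := Nat.Coprime.mul_right h1 h2
    apply h3.dvd_of_dvd_mul_left
    rw [show 5 * 11 * 144 = 7920 by norm_num]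
    exact hdvd
  have h9 : 9 ∣ Nat.card (Nn T) := by
    rw [← hT]
    exact Subgroup.card_dvd_of_le hTN
  -- the Sylow numbers
  have hTp : IsPGroup 3 T := IsPGroup.of_card (n := 2) (by rw [hT]; norm_num)
  have hndvd : ¬ 3 ∣ T.index := by
    intro h1
    have h2 := T.card_mul_index
    rw [hT, hN] at h2
    omega
  let S : Sylow 3 G := hTp.toSylow hndvd
  have hS : (S : Subgroup G) = T := IsPGroup.toSylow_coe hTp hndvd
  have hnm := Cfsg.Agent.Lib.Small.Sieve.card_normalizer_mul S
  rw [hS, hN] at hnm
  have hmod : Nat.card (Sylow 3 G) % 3 = 1 := by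
    have := card_sylow_modEq_one 3 G
    simpa [Nat.ModEq] using this
  -- Burnside
  have hne9 : Nat.card (Nn T) ≠ 9 := by
    intro h
    have h1 := Cfsg.Agent.Lib.Small.Basic.normalizer_not_le_centralizer hG 3 (by rw [hN]; norm_num) S
    rw [hS] at h1
    apply h1
    have h2 : Cn T ≤ Nn T := Subgroup.centralizer_le_normalizer _
    have h3 := Subgroup.eq_of_le_of_card_ge h2 (by rw [h, hCT])
    exact le_of_eq h3.symm
  have hle := Nat.le_of_dvd (by norm_num) hc144
  have hcases : Nat.card (Nn T) = 36 ∨ Nat.card (Nn T) = 144 := by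
    generalize Nat.card (Nn T) = c at *
    generalize Nat.card (Sylow 3 G) = n at *
    interval_cases c <;> omega
  -- `T` is not cyclic
  have hncyc : ¬ IsCyclic T := by
    intro hcyc
    have h1 := Cfsg.Agent.Lib.SmallSimple.G168.relIndex_centralizer_dvd T
    rw [hcyc.card_mulAut, hT] at h1
    have h2 : Nat.totient 9 = 6 := by decide
    rw [h2] at h1
    have h3 : Nat.card (Nn T) = (Cn T).relIndex (Nn T) * Nat.card (Cn T) := by
      have h4 := ((Cn T).subgroupOf (Nn T)).card_mul_index
      have hle' : Cn T ≤ Nn T := Subgroup.centralizer_le_normalizer _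
      rw [Nat.card_congr (Subgroup.subgroupOfEquivOfLe hle').toEquiv] at h4
      rw [← h4, mul_comm]
      rfl
    rw [hCT] at h3
    generalize (Cn T).relIndex (Nn T) = e at *
    have hele : e ≤ 6 := Nat.le_of_dvd (by norm_num) h1
    rcases hcases with h | h <;> rw [h] at h3
    · have h4 : e = 4 := by omega
      subst h4
      omega
    · omega
  have hord3 : ∀ v ∈ T, v ≠ 1 → orderOf v = 3 := by
    intro v hv hv1
    have h1 := hord v hv
    have hle9 := Nat.le_of_dvd (by norm_num) h1
    have h2 : orderOf v ≠ 1 := fun h => hv1 (orderOf_eq_one_iff.mp h)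
    have h3 : orderOf v ≠ 9 := by
      intro h4
      apply hncyc
      have h5 : Subgroup.zpowers v = T := by
        apply Subgroup.eq_of_le_of_card_ge
        · rw [Subgroup.zpowers_le]
          exact hv
        · rw [hT, Nat.card_zpowers, h4]
      rw [← h5]
      infer_instance
    generalize orderOf v = m at *
    interval_cases m <;> omega
  have hC : ∀ v ∈ T, v ≠ 1 → Nat.card (Subgroup.centralizer ({v} : Set G)) = 18 := fun v hv hv1 =>
    card_centralizer_three D hN hT hv (hord3 v hv hv1)
  have hCN : ∀ v ∈ T, v ≠ 1 → Subgroup.centralizer ({v} : Set G) ≤ Nn T := by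
    intro v hv hv1
    have hTC : T ≤ Subgroup.centralizer ({v} : Set G) := by
      intro a ha
      rw [Subgroup.mem_centralizer_singleton_iff]
      exact hcomm a ha v hv
    have hidx : (T.subgroupOf (Subgroup.centralizer ({v} : Set G))).index = 2 := by
      have h1 := (T.subgroupOf (Subgroup.centralizer ({v} : Set G))).card_mul_index
      rw [Nat.card_congr (Subgroup.subgroupOfEquivOfLe hTC).toEquiv, hT, hC v hv hv1] at h1
      omega
    haveI := Subgroup.normal_of_index_eq_two hidx
    exact Subgroup.le_normalizer_of_normal_subgroupOf hTC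
  have h45 := double_count hT hTN hcomm hCT hC hCN
  rcases hcases with h | h
  · omega
  · exact h

end Cfsg.Agent.Lib.Ord7920.Syl3
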