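import Cfsg.Agent.Lib.Ord7920.InvolC

/-!
# Simple groups of order 7920: centralizers of elements of order three
-/

set_option autoImplicit false
set_option linter.unusedSectionVars false

namespace Cfsg.Agent.Lib.Ord7920.Three

open Cfsg Module
open Cfsg.Agent.Lib.Char.Basic Cfsg.Agent.Lib.Char.Ortho Cfsg.Agent.Lib.Char.Degree
open Cfsg.Agent.Lib.ExcP.Gram Cfsg.Agent.Lib.ExcP.Core
open Cfsg.Agent.Lib.Ord7920.Values Cfsg.Agent.Lib.Ord7920.Step11 Cfsg.Agent.Lib.Ord7920.Data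
open Cfsg.Agent.Lib.Ord7920.InvolC
open scoped ComplexConjugate

universe u

/-- Positivity of the norm form, when prime to 3. -/
theorem norm_pos_int {x w d : ℤ} (hw : (3 : ℤ) ∣ w) (hx : (3 : ℤ) ∣ x - d) (hd : ¬ (3 : ℤ) ∣ d) :
    1 ≤ x ^ 2 - x * w + w ^ 2 := by
  have h1 : 0 ≤ 4 * (x ^ 2 - x * w + w ^ 2) := by nlinarith [sq_nonneg (2 * x - w), sq_nonneg w]
  have h2 : x ^ 2 - x * w + w ^ 2 ≠ 0 := by
    intro h
    have h3 : w ^ 2 = 0 := by nlinarith [sq_nonneg (2 * x - w), sq_nonneg w]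
    have h4 : w = 0 := by simpa using h3
    subst h4
    have h5 : x ^ 2 = 0 := by linarith
    have h6 : x = 0 := by simpa using h5
    subst h6
    apply hd
    omega
  omega

/-- Norm one elements which are 1 modulo 3. -/
theorem eq_one_of_norm {x w : ℤ} (hw : (3 : ℤ) ∣ w) (hx : (3 : ℤ) ∣ x - 1)
    (hn : x ^ 2 - x * w + w ^ 2 = 1) : x = 1 ∧ w = 0 := by
  obtain ⟨w', rfl⟩ := hw
  have hw0 : w' = 0 := by
    by_contra hne
    have h1 : 1 ≤ w' ^ 2 := by
      have h2 := sq_nonneg w'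
      have h3 : w' ^ 2 ≠ 0 := pow_ne_zero 2 hne
      omega
    nlinarith [sq_nonneg (2 * x - 3 * w')]
  subst hw0
  have h1 : (x - 1) * (x + 1) = 0 := by linarith
  rcases mul_eq_zero.mp h1 with h2 | h2
  · exact ⟨by linarith, by simp⟩
  · exfalso
    have : x = -1 := by linarith
    subst this
    omega

/-- The norm of an integral element. -/
theorem sq_dvd_of_integral {i d : ℕ} {x w : ℤ} (hd : d ≠ 0)
    (h : IsIntegral ℤ ((i : ℂ) * ((x : ℂ) + w * om) / (d : ℂ))) :
    ((d ^ 2 : ℕ) : ℤ) ∣ (i : ℤ) ^ 2 * (x ^ 2 - x * w + w ^ 2) := by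
  have h1 : IsIntegral ℤ (conj ((i : ℂ) * ((x : ℂ) + w * om) / (d : ℂ))) :=
    h.map (starRingEnd ℂ).toIntAlgHom
  have h2 := h.mul h1
  have hd' : (d : ℂ) ≠ 0 := by exact_mod_cast hd
  have h3 : (i : ℂ) * ((x : ℂ) + w * om) / (d : ℂ) * conj ((i : ℂ) * ((x : ℂ) + w * om) / (d : ℂ)) =
      (((i : ℤ) ^ 2 * (x ^ 2 - x * w + w ^ 2) : ℤ) : ℂ) / ((d ^ 2 : ℕ) : ℂ) := by
    rw [Complex.mul_conj, Complex.normSq_div, Complex.normSq_mul, normSq_om, Complex.normSq_natCast,
      Complex.normSq_natCast]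
    push_cast
    field_simp
  rw [h3] at h2
  exact int_dvd_of_isIntegral_div (by positivity) h2

section

variable {G : Type u} [Group G] [Fintype G] [IsSimpleGroup G] [Fintype (IrrCharacter G)]

/-- An element of prime order in a centralizer. -/
theorem no_prime_in_centralizer {r : ℕ} [hr : Fact r.Prime]
    (hC : ∀ Q : Subgroup G, Nat.card Q = r → Nat.card (Cn Q) = r) {y : G} (hy1 : y ≠ 1)
    (hy : ¬ r ∣ orderOf y) : ¬ r ∣ Nat.card (Subgroup.centralizer ({y} : Set G)) := by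
  intro h
  obtain ⟨u, hu⟩ := exists_prime_orderOf_dvd_card' (G := Subgroup.centralizer ({y} : Set G)) r h
  have hu' : orderOf (u : G) = r := by
    rw [Subgroup.orderOf_coe, hu]
  have hQ : Nat.card (Subgroup.zpowers (u : G)) = r := by
    rw [Nat.card_zpowers, hu']
  have hyC : y ∈ Cn (Subgroup.zpowers (u : G)) := by
    rw [Subgroup.mem_centralizer_iff]
    intro w hw
    obtain ⟨k, rfl⟩ := Subgroup.mem_zpowers_iff.mp hw
    have h2 := Subgroup.mem_centralizer_singleton_iff.mp u.2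
    have h3 : Commute (u : G) y := h2
    exact h3.zpow_left k
  have h1 := orderOf_dvd_natCard (⟨y, hyC⟩ : Cn (Subgroup.zpowers (u : G)))
  rw [hC _ hQ, Subgroup.orderOf_mk] at h1
  rcases (Nat.dvd_prime hr.out).mp h1 with h2 | h2
  · exact hy1 (orderOf_eq_one_iff.mp h2)
  · exact hy (by rw [h2])

/-- The centralizer of an element of order 3 has order 18. -/
theorem card_centralizer_three (D : Chars G) (hN : Nat.card G = 7920) {T : Subgroup G}
    (hT : Nat.card T = 9) {y : G} (hy : y ∈ T) (hy3 : orderOf y = 3) :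
    Nat.card (Subgroup.centralizer ({y} : Set G)) = 18 := by
  classical
  haveI hp3 : Fact (Nat.Prime 3) := ⟨by norm_num⟩
  haveI hp5 : Fact (Nat.Prime 5) := ⟨by norm_num⟩
  haveI hp11 : Fact (Nat.Prime 11) := ⟨by norm_num⟩
  have hG := not_comm hN
  have hy1 : y ≠ 1 := by
    rintro rfl
    rw [orderOf_one] at hy3
    omega
  have hy2 : y ^ 3 = 1 := by
    rw [← hy3]
    exact pow_orderOf_eq_one y
  -- the order of the centralizer
  have hcomm : IsMulCommutative T :=
    IsPGroup.isMulCommutative_of_card_eq_prime_sq (p := 3) (by rw [hT]; norm_num)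
  have hTC : T ≤ Subgroup.centralizer ({y} : Set G) := by
    intro a ha
    rw [Subgroup.mem_centralizer_singleton_iff]
    have h1 := hcomm.is_comm.comm ⟨a, ha⟩ ⟨y, hy⟩
    exact congrArg Subtype.val h1
  have h9 : 9 ∣ Nat.card (Subgroup.centralizer ({y} : Set G)) := by
    rw [← hT]
    exact Subgroup.card_dvd_of_le hTC
  have h5 : ¬ 5 ∣ Nat.card (Subgroup.centralizer ({y} : Set G)) :=
    no_prime_in_centralizer (fun Q hQ => (Stage5.card_five hN D.A D.dA hQ).1) hy1
      (by rw [hy3]; norm_num)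
  have h11 : ¬ 11 ∣ Nat.card (Subgroup.centralizer ({y} : Set G)) :=
    no_prime_in_centralizer (fun Q hQ => card_centralizer hN hQ) hy1 (by rw [hy3]; norm_num)
  have hdvd : Nat.card (Subgroup.centralizer ({y} : Set G)) ∣ 7920 :=
    hN ▸ Subgroup.card_subgroup_dvd_card _
  have hidx := (Subgroup.centralizer ({y} : Set G)).card_mul_index
  rw [hN] at hidx
  have hc144 : Nat.card (Subgroup.centralizer ({y} : Set G)) ∣ 144 := by
    have h1 : Nat.Coprime (Nat.card (Subgroup.centralizer ({y} : Set G))) 5 :=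
      ((Nat.Prime.coprime_iff_not_dvd (by norm_num)).mpr h5).symm
    have h2 : Nat.Coprime (Nat.card (Subgroup.centralizer ({y} : Set G))) 11 :=
      ((Nat.Prime.coprime_iff_not_dvd (by norm_num)).mpr h11).symm
    have h3 : Nat.Coprime (Nat.card (Subgroup.centralizer ({y} : Set G))) (5 * 11) :=
      Nat.Coprime.mul_right h1 h2
    apply h3.dvd_of_dvd_mul_left
    rw [show 5 * 11 * 144 = 7920 by norm_num]
    exact hdvd
  -- the values
  have hval : ∀ X : IrrCharacter G, ∃ x w : ℤ, (X : G → ℂ) y = (x : ℂ) + w * om ∧ (3 : ℤ) ∣ w ∧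
      (3 : ℤ) ∣ x - (charDegree (X : G → ℂ) : ℤ) ∧
      (X : G → ℂ) y * conj ((X : G → ℂ) y) = ((x ^ 2 - x * w + w ^ 2 : ℤ) : ℂ) := by
    intro X
    obtain ⟨x, w, h1, h2, h3⟩ := order_three_value hG X hy2
    refine ⟨x, w, h1, h2, h3, ?_⟩
    rw [Complex.mul_conj, h1, normSq_om]
    push_cast
    rfl
  obtain ⟨xA, wA, hA, hwA, hxA, hnA⟩ := hval D.A
  obtain ⟨xB, wB, hB, hwB, hxB, hnB⟩ := hval D.B
  obtain ⟨xC, wC, hC, hwC, hxC, hnC⟩ := hval D.C
  obtain ⟨xE, wE, hE, hwE, hxE, hnE⟩ := hval D.E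
  obtain ⟨xH, wH, hH, hwH, hxH, hnH⟩ := hval D.H
  obtain ⟨xK, wK, hK, hwK, hxK, hnK⟩ := hval D.K
  obtain ⟨xm, wm, hm, hwm, hxm, hnm⟩ := hval D.m₀
  rw [D.dA] at hxA
  rw [D.dB] at hxB
  rw [D.dC] at hxC
  rw [D.dE] at hxE
  rw [D.dH] at hxH
  rw [D.dK] at hxK
  rw [D.dm₀] at hxm
  have hI0 : (D.I : G → ℂ) y = 0 :=
    value_eq_zero_of_defect_zero D.I (p := 3) (n := 2) (by norm_num) (by rw [hN]; norm_num)
      (by rw [hN]; norm_num) (by rw [D.dI]; norm_num) (by rw [hy3])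
  have hm1 : (D.m₁ : G → ℂ) y = (D.m₀ : G → ℂ) y := by
    have h1 := D.rel11 y (by rw [hy3]; norm_num)
    have h2 := D.rel11' y (by rw [hy3]; norm_num)
    linear_combination h2 - h1
  have hsum : (Nat.card (Subgroup.centralizer ({y} : Set G)) : ℤ) =
      1 + (xA ^ 2 - xA * wA + wA ^ 2) + (xB ^ 2 - xB * wB + wB ^ 2) + (xC ^ 2 - xC * wC + wC ^ 2) +
        (xE ^ 2 - xE * wE + wE ^ 2) + 2 * (xm ^ 2 - xm * wm + wm ^ 2) +
        (xH ^ 2 - xH * wH + wH ^ 2) + (xK ^ 2 - xK * wK + wK ^ 2) := by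
    have h1 := sum_self y
    rw [D.sum_all (fun j => (j : G → ℂ) y * conj ((j : G → ℂ) y))] at h1
    simp only [hnA, hnB, hnC, hnE, hnH, hnK, hnm, hm1, hI0, oneIrr_apply, map_one, map_zero] at h1
    have h2 : (((Nat.card (Subgroup.centralizer ({y} : Set G)) : ℤ)) : ℂ) =
        ((1 + (xA ^ 2 - xA * wA + wA ^ 2) + (xB ^ 2 - xB * wB + wB ^ 2) + (xC ^ 2 - xC * wC + wC ^ 2) +
        (xE ^ 2 - xE * wE + wE ^ 2) + 2 * (xm ^ 2 - xm * wm + wm ^ 2) +
        (xH ^ 2 - xH * wH + wH ^ 2) + (xK ^ 2 - xK * wK + wK ^ 2) : ℤ) : ℂ) := by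
      push_cast
      push_cast at h1
      rw [← h1]
      ring
    exact_mod_cast h2
  have pA := norm_pos_int (d := ((10 : ℕ) : ℤ)) hwA hxA (by norm_num)
  have pB := norm_pos_int (d := ((10 : ℕ) : ℤ)) hwB hxB (by norm_num)
  have pC := norm_pos_int (d := ((10 : ℕ) : ℤ)) hwC hxC (by norm_num)
  have pE := norm_pos_int (d := ((11 : ℕ) : ℤ)) hwE hxE (by norm_num)
  have pH := norm_pos_int (d := ((44 : ℕ) : ℤ)) hwH hxH (by norm_num)
  have pK := norm_pos_int (d := ((55 : ℕ) : ℤ)) hwK hxK (by norm_num)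
  have pm := norm_pos_int (d := ((16 : ℕ) : ℤ)) hwm hxm (by norm_num)
  -- integrality
  have hint := isIntegral_central D.m₀ y
  rw [hm, D.dm₀] at hint
  have hsq := sq_dvd_of_integral (by norm_num) hint
  generalize hnm' : xm ^ 2 - xm * wm + wm ^ 2 = ng at hsum pm hsq
  generalize hnA' : xA ^ 2 - xA * wA + wA ^ 2 = nA at hsum pA
  generalize hnB' : xB ^ 2 - xB * wB + wB ^ 2 = nB at hsum pB
  generalize hnC' : xC ^ 2 - xC * wC + wC ^ 2 = nC at hsum pC
  generalize xE ^ 2 - xE * wE + wE ^ 2 = nE at hsum pE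
  generalize xH ^ 2 - xH * wH + wH ^ 2 = nH at hsum pH
  generalize xK ^ 2 - xK * wK + wK ^ 2 = nK at hsum pK
  have hle := Nat.le_of_dvd (by norm_num) hc144
  generalize hidxv : (Subgroup.centralizer ({y} : Set G)).index = i at hidx hsq
  generalize hcv : Nat.card (Subgroup.centralizer ({y} : Set G)) = c at *
  have hcases : c = 9 ∨ c = 18 ∨ c = 36 ∨ c = 72 ∨ c = 144 := by
    interval_cases c <;> omega
  rcases hcases with rfl | rfl | rfl | rfl | rfl
  · -- `c = 9`
    exfalso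
    have e1 : nA = 1 := by push_cast at hsum; omega
    have e2 : nB = 1 := by push_cast at hsum; omega
    have e3 : nC = 1 := by push_cast at hsum; omega
    have e4 : ng = 1 := by push_cast at hsum; omega
    have hA1 := eq_one_of_norm hwA (by push_cast at hxA; omega) (hnA'.trans e1)
    have hB1 := eq_one_of_norm hwB (by push_cast at hxB; omega) (hnB'.trans e2)
    have hC1 := eq_one_of_norm hwC (by push_cast at hxC; omega) (hnC'.trans e3)
    have hm1' := eq_one_of_norm hwm (by push_cast at hxm; omega) (hnm'.trans e4)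
    have h1 := D.rel11 y (by rw [hy3]; norm_num)
    rw [hA, hB, hC, hI0, hm, hA1.1, hA1.2, hB1.1, hB1.2, hC1.1, hC1.2, hm1'.1, hm1'.2] at h1
    norm_num at h1
  · rfl
  · exfalso
    have hi : i = 220 := by omega
    subst hi
    norm_num at hsq
    push_cast at hsum
    omega
  · exfalso
    have hi : i = 110 := by omega
    subst hi
    norm_num at hsq
    push_cast at hsum
    omega
  · exfalso
    have hi : i = 55 := by omega
    subst hi
    norm_num at hsq
    push_cast at hsum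
    omega

end

end Cfsg.Agent.Lib.Ord7920.Three
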