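import Cfsg.Agent.Lib.Ord7920.B0
import Cfsg.Agent.Lib.ExcP.Invol
import Cfsg.Agent.Lib.ExcP.Kill
import Cfsg.Agent.Lib.ExcP.Local
import Cfsg.Agent.Lib.Char.DetChar
import Cfsg.Agent.Lib.Char.ClassProd
import Cfsg.Agent.Lib.Char.DefectZero

/-!
# Values of irreducible characters: general facts

Degree bound for the principal block when `C(P) ≠ P`, values on `P`, determinant conditions at elements of
order two and three, scalar elements, defect zero, integrality.
-/

set_option autoImplicit false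
set_option linter.unusedSectionVars false

namespace Cfsg.Agent.Lib.Ord7920.Values

open Cfsg Module
open Cfsg.Agent.Lib.Char.Basic Cfsg.Agent.Lib.Char.Ortho Cfsg.Agent.Lib.Char.Degree
open Cfsg.Agent.Lib.ExcP.Gram Cfsg.Agent.Lib.ExcP.Dual Cfsg.Agent.Lib.ExcP.Inst
open Cfsg.Agent.Lib.ExcP.BlockHA Cfsg.Agent.Lib.ExcP.Invol Cfsg.Agent.Lib.ExcP.Core
open scoped ComplexConjugate

universe u

section Block

variable {G : Type u} [Group G] [Fintype G] {M : Ideal AlgInt} {p : ℕ} [hp : Fact p.Prime]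
  {P : Subgroup G}

/-- An idempotent of trace zero vanishes. -/
theorem eq_zero_of_trace_eq_zero {n : ℕ} {f : Module.End ℂ (Fin n → ℂ)} (hf : IsIdempotentElem f)
    (h : LinearMap.trace ℂ _ f = 0) : f = 0 := by
  have h1 := LinearMap.IsProj.trace (LinearMap.IsIdempotentElem.isProj_range f hf)
  rw [h] at h1
  have h2 : finrank ℂ (LinearMap.range f) = 0 := by
    have h3 : ((finrank ℂ (LinearMap.range f) : ℕ) : ℂ) = 0 := by
      simpa using h1.symm
    exact_mod_cast h3
  have h3 : LinearMap.range f = ⊥ := Submodule.finrank_eq_zero.mp h2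
  exact LinearMap.range_eq_bot.mp h3

/-- If `C(P)` is larger than `P`, non-principal characters of the principal block have degree at
least `p`. -/
theorem deg_ge [IsSimpleGroup G] (hP : Nat.card P = p) (hp2 : ¬ p ^ 2 ∣ Nat.card G)
    (hM : IsPModular p M) (hC : p < Nat.card (Cn P)) {j : IrrCharacter G}
    (hj : j ∈ principalBlock M G) (hj1 : j ≠ oneIrr G) : p ≤ charDegree (j : G → ℂ) := by
  classical
  letI : Fintype P := Fintype.ofFinite _
  obtain ⟨V, hVn, hV, hq', hc⟩ := exists_complement hP hp2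
  haveI := hVn
  have hcardV : 1 < Nat.card V := by
    have h1 := V.card_mul_index
    rw [Subgroup.index_eq_card, hq'] at h1
    by_contra hcon
    have h2 : Nat.card V ≤ 1 := by omega
    have h3 : Nat.card V * p ≤ 1 * p := Nat.mul_le_mul_right p h2
    omega
  obtain ⟨v, hv⟩ : ∃ v : V, v ≠ 1 := by
    haveI : Nontrivial V := (Finite.one_lt_card_iff_nontrivial).mp hcardV
    exact exists_ne _
  have hv' : ((v : Cn P) : G) ≠ 1 := fun h => hv (Subtype.ext (Subtype.ext h))
  by_contra hlt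
  push Not at hlt
  obtain ⟨n, ρ, hρ, hjρ⟩ := j.2
  have hjc : (j : G → ℂ) = ρ.character := hjρ.symm
  haveI := finite_hom_P hP
  letI : Fintype (P →* ℂˣ) := Fintype.ofFinite _
  have hnat : ∀ Y : P →* ℂˣ, ∃ k : ℕ, LinearMap.trace ℂ _ (piY ρ Y) = k :=
    fun Y => exists_nat_trace (piY_idem ρ Y)
  choose m hm using hnat
  have htr : ∀ Y : P →* ℂˣ, LinearMap.trace ℂ _ (piY ρ Y) =
      (Nat.card P : ℂ)⁻¹ * ∑ u : P, conj ((Y u : ℂˣ) : ℂ) * ρ.character (u : G) := by
    intro Y
    have h1 := trace_piY_mul ρ Y 1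
    simp only [map_one, mul_one] at h1
    exact h1
  have hp0 : (p : ℂ) ≠ 0 := by
    exact_mod_cast hp.out.ne_zero
  have hsum : ∑ Y : P →* ℂˣ, (m Y : ℂ) = (charDegree (j : G → ℂ) : ℂ) := by
    simp only [← hm, htr]
    rw [← Finset.mul_sum]
    simp only [Finset.sum_comm (s := (Finset.univ : Finset (P →* ℂˣ))) (t := (Finset.univ : Finset P))]
    simp only [← Finset.sum_mul, ← map_sum]
    simp only [sum_hom hP]
    rw [Finset.sum_eq_single (1 : P)]
    · simp only [if_true, map_natCast, hP]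
      rw [charDegree_natCast (isCharacter_of_isIrrCharacter j.2), hjc]
      show _ = _
      field_simp
      rfl
    · intro u _ hu
      simp [hu]
    · simp
  have hsumN : ∑ Y : P →* ℂˣ, m Y = charDegree (j : G → ℂ) := by
    exact_mod_cast hsum
  obtain ⟨Y, hY⟩ : ∃ Y : P →* ℂˣ, m Y = 0 := by
    by_contra hcon
    push Not at hcon
    have h1 : ∑ _Y : P →* ℂˣ, 1 ≤ ∑ Y : P →* ℂˣ, m Y :=
      Finset.sum_le_sum fun Y _ => Nat.one_le_iff_ne_zero.mpr (hcon Y)
    simp only [Finset.sum_const, Finset.card_univ, smul_eq_mul, mul_one] at h1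
    rw [← Nat.card_eq_fintype_card, card_hom hP, hsumN] at h1
    omega
  have h0 : piY ρ Y = 0 := by
    apply eq_zero_of_trace_eq_zero (piY_idem ρ Y)
    rw [hm, hY]
    simp
  have h1 : LinearMap.trace ℂ _ (piY ρ Y * ρ ((v : Cn P) : G)) = 0 := by
    rw [h0]
    simp
  have h2 : LinearMap.trace ℂ _ (piY ρ Y) = 0 := by
    rw [h0]
    simp
  rw [trace_piY_mul] at h1
  rw [htr] at h2
  have hcardP : (Nat.card P : ℂ)⁻¹ ≠ 0 := by
    rw [hP]
    exact inv_ne_zero hp0
  have h1' := (mul_eq_zero.mp h1).resolve_left hcardP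
  have h2' := (mul_eq_zero.mp h2).resolve_left hcardP
  have h3 := sum_diff hP hM hj V hVn hV v.2 Y
  simp only [mul_sub, Finset.sum_sub_distrib, hjc] at h3
  rw [h1', h2', sub_self] at h3
  apply hj1
  apply eq_one_of_value_eq j hv'
  rw [hjc]
  have h4 : ρ.character (1 : G) = ρ.character ((v : Cn P) : G) := by
    linear_combination -h3
  exact h4.symm

/-- Values on `P` from the inner products with the family. -/
theorem conj_value_of_Ak [Fintype P] [Fintype (DD P p)] (hP : Nat.card P = p)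
    (hp2 : ¬ p ^ 2 ∣ Nat.card G) (j : G → ℂ) {z : ℂ}
    (h : ∀ κ, IsD P p κ → Ak hP κ j = z) {u : G} (hu : u ∈ P) (hu1 : u ≠ 1) :
    conj (j u) = -z := by
  classical
  set u₀ : P := ⟨u, hu⟩ with hu₀
  have hu₀1 : u₀ ≠ 1 := fun h' => hu1 (congrArg Subtype.val h')
  have hp0 : (p : ℂ) ≠ 0 := by
    exact_mod_cast hp.out.ne_zero
  have hcard : (Fintype.card (DD P p) : ℂ) = (p : ℂ) - 1 := by
    rw [← Nat.card_eq_fintype_card, card_DD hP hp2, Nat.cast_sub hp.out.one_lt.le]
    simp
  have hval : ∀ (d : DD P p) (w : P), ((d.1 ⟨(u₀⁻¹ * w : P), le_centralizer hP (u₀⁻¹ * w).2⟩ : ℂˣ) : ℂ) =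
      ((d.1 ⟨(u₀⁻¹ : P), le_centralizer hP u₀⁻¹.2⟩ : ℂˣ) : ℂ) * ((d.1 ⟨w, le_centralizer hP w.2⟩ : ℂˣ) : ℂ) := by
    intro d w
    rw [← Units.val_mul, ← map_mul]
    rfl
  have hT1 : ∑ d : DD P p, ((d.1 ⟨(u₀⁻¹ : P), le_centralizer hP u₀⁻¹.2⟩ : ℂˣ) : ℂ) = -1 := by
    have h1 := sum_DD hP hp2 (u₀⁻¹)
    rw [if_neg (inv_ne_one.mpr hu₀1), Finset.sum_sub_distrib, Finset.sum_const, Finset.card_univ,
      nsmul_eq_mul, mul_one, hcard] at h1
    linear_combination h1
  have hT2 : ∀ w : P, ∑ d : DD P p, ((d.1 ⟨(u₀⁻¹ : P), le_centralizer hP u₀⁻¹.2⟩ : ℂˣ) : ℂ) *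
      (((d.1 ⟨w, le_centralizer hP w.2⟩ : ℂˣ) : ℂ) - 1) = if w = u₀ then (p : ℂ) else 0 := by
    intro w
    have h1 := sum_DD hP hp2 (u₀⁻¹ * w)
    have h2 := sum_DD hP hp2 (u₀⁻¹)
    rw [if_neg (inv_ne_one.mpr hu₀1)] at h2
    simp only [mul_sub, mul_one, ← hval]
    rw [Finset.sum_sub_distrib]
    rw [Finset.sum_sub_distrib] at h1 h2
    by_cases hw : w = u₀
    · subst hw
      rw [if_pos (by simp)] at h1
      rw [if_pos rfl]
      linear_combination h1 - h2
    · rw [if_neg (by
        intro hh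
        apply hw
        rw [inv_mul_eq_one] at hh
        exact hh.symm)] at h1
      rw [if_neg hw]
      linear_combination h1 - h2
  have hT3 : ∑ d : DD P p, ((d.1 ⟨(u₀⁻¹ : P), le_centralizer hP u₀⁻¹.2⟩ : ℂˣ) : ℂ) * Ak hP d.1 j =
      conj (j u₀) := by
    simp only [Ak]
    have e1 : ∀ d : DD P p, ((d.1 ⟨(u₀⁻¹ : P), le_centralizer hP u₀⁻¹.2⟩ : ℂˣ) : ℂ) *
        ((p : ℂ)⁻¹ * ∑ w : P, (((d.1 ⟨w, le_centralizer hP w.2⟩ : ℂˣ) : ℂ) - 1) * conj (j w)) =
        (p : ℂ)⁻¹ * ∑ w : P, ((d.1 ⟨(u₀⁻¹ : P), le_centralizer hP u₀⁻¹.2⟩ : ℂˣ) : ℂ) *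
          ((((d.1 ⟨w, le_centralizer hP w.2⟩ : ℂˣ) : ℂ) - 1) * conj (j w)) := by
      intro d
      rw [Finset.mul_sum, Finset.mul_sum, Finset.mul_sum]
      exact Finset.sum_congr rfl fun w _ => by ring
    simp only [e1]
    rw [← Finset.mul_sum, Finset.sum_comm]
    have e2 : ∀ w : P, ∑ d : DD P p, ((d.1 ⟨(u₀⁻¹ : P), le_centralizer hP u₀⁻¹.2⟩ : ℂˣ) : ℂ) *
        ((((d.1 ⟨w, le_centralizer hP w.2⟩ : ℂˣ) : ℂ) - 1) * conj (j w)) =
        (if w = u₀ then (p : ℂ) else 0) * conj (j w) := by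
      intro w
      rw [← hT2 w, Finset.sum_mul]
      exact Finset.sum_congr rfl fun d _ => by ring
    simp only [e2]
    rw [Finset.sum_eq_single u₀]
    · rw [if_pos rfl]
      field_simp
    · intro w _ hw
      rw [if_neg hw, zero_mul]
    · simp
  have hT4 : ∑ d : DD P p, ((d.1 ⟨(u₀⁻¹ : P), le_centralizer hP u₀⁻¹.2⟩ : ℂˣ) : ℂ) * Ak hP d.1 j =
      -z := by
    simp only [fun d : DD P p => h d.1 d.2]
    rw [← Finset.sum_mul, hT1]
    ring
  rw [← hT4, hT3]

/-- `p` divides the degree if all the local inner products vanish. -/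
theorem dvd_degree_of_Ak [Fintype P] [Fintype (DD P p)] (hP : Nat.card P = p)
    (hp2 : ¬ p ^ 2 ∣ Nat.card G) (j : IrrCharacter G)
    (h : ∀ κ, IsD P p κ → Ak hP κ (j : G → ℂ) = 0) : p ∣ charDegree (j : G → ℂ) := by
  obtain ⟨a, -, h1⟩ := sum_Ak_nat hP hp2 j
  have h2 : ∑ d : DD P p, Ak hP d.1 (j : G → ℂ) = 0 :=
    Finset.sum_eq_zero fun d _ => h d.1 d.2
  rw [h2] at h1
  have h3 : (charDegree (j : G → ℂ) : ℂ) = ((p * a : ℕ) : ℂ) := by
    push_cast
    linear_combination -h1
  have h4 : charDegree (j : G → ℂ) = p * a := by exact_mod_cast h3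
  exact ⟨a, h4⟩

end Block

section Rep

variable {G : Type u} [Group G] [Finite G] {n : ℕ}

/-- The determinant of a diagonal endomorphism. -/
theorem det_eq_prod {ι : Type*} [Fintype ι] [DecidableEq ι] {V : Type*} [AddCommGroup V]
    [Module ℂ V] (b : Basis ι ℂ V) {T : Module.End ℂ V} (μ : ι → ℂ)
    (h : ∀ i, T (b i) = μ i • b i) : LinearMap.det T = ∏ i, μ i := by
  have h1 : LinearMap.toMatrix b b T = Matrix.diagonal μ := by
    ext i k
    rw [LinearMap.toMatrix_apply, h, map_smul, Finsupp.smul_apply, Basis.repr_self, smul_eq_mul,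
      Matrix.diagonal_apply, Finsupp.single_apply]
    by_cases hik : i = k
    · subst hik
      simp
    · rw [if_neg hik, if_neg (Ne.symm hik)]
      simp
  rw [← LinearMap.det_toMatrix b, h1, Matrix.det_diagonal]

/-- Determinants are trivial in a non-abelian simple group. -/
theorem det_eq_one [IsSimpleGroup G] (hG : ¬ IsMulCommutative G)
    (ρ : Representation ℂ G (Fin n → ℂ)) (g : G) : LinearMap.det (ρ g) = 1 := by
  have h := Cfsg.Agent.Lib.Char.DetChar.coe_detRep ρ g
  rcases Cfsg.Agent.Lib.Small.Basic.hom_trivial_or_injective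
    (Cfsg.Agent.Lib.Char.DetChar.detRep ρ) with h1 | h1
  · rw [← h, h1 g]
    simp
  · exfalso
    apply hG
    refine ⟨⟨fun a b => h1 ?_⟩⟩
    rw [map_mul, map_mul, mul_comm]

/-- Sum and product of a family of signs. -/
theorem sum_prod_signs {ι : Type*} (S : Finset ι) (μ : ι → ℂ) (h : ∀ i ∈ S, μ i ^ 2 = 1) :
    ∃ m : ℕ, ∑ i ∈ S, μ i = (S.card : ℂ) - 2 * m ∧ ∏ i ∈ S, μ i = (-1) ^ m := by
  classical
  induction S using Finset.induction_on with
  | empty => exact ⟨0, by simp, by simp⟩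
  | insert a S ha ih =>
    obtain ⟨m, h1, h2⟩ := ih fun i hi => h i (Finset.mem_insert_of_mem hi)
    have h3 := h a (Finset.mem_insert_self _ _)
    have h4 : (μ a - 1) * (μ a + 1) = 0 := by linear_combination h3
    rcases mul_eq_zero.mp h4 with h5 | h5
    · have h6 : μ a = 1 := by linear_combination h5
      refine ⟨m, ?_, ?_⟩
      · rw [Finset.sum_insert ha, h1, Finset.card_insert_of_notMem ha, h6]
        push_cast
        ring
      · rw [Finset.prod_insert ha, h2, h6, one_mul]
    · have h6 : μ a = -1 := by linear_combination h5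
      refine ⟨m + 1, ?_, ?_⟩
      · rw [Finset.sum_insert ha, h1, Finset.card_insert_of_notMem ha, h6]
        push_cast
        ring
      · rw [Finset.prod_insert ha, h2, h6, pow_succ]
        ring

/-- The value of an irreducible character at an involution of a non-abelian simple group. -/
theorem involution_value [IsSimpleGroup G] (hG : ¬ IsMulCommutative G) (j : IrrCharacter G) {t : G}
    (ht : t ^ 2 = 1) : ∃ m : ℕ, (j : G → ℂ) t = ((charDegree (j : G → ℂ) : ℂ)) - 4 * m := by
  classical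
  obtain ⟨n, ρ, hρ, hjρ⟩ := j.2
  have hjc : (j : G → ℂ) = ρ.character := hjρ.symm
  rw [hjc, charDegree_character]
  obtain ⟨b, μ, hb, -⟩ := Cfsg.Agent.Lib.Char.Eigen.exists_eigenbasis ρ t
  have hμ : ∀ i, μ i ^ 2 = 1 := by
    intro i
    have h1 : ρ t = 1 ∨ True := Or.inr trivial
    have h2 : (ρ t) ((ρ t) (b i)) = b i := by
      rw [← Module.End.mul_apply, ← map_mul, ← pow_two, ht, map_one]
      rfl
    rw [hb, map_smul, hb, smul_smul] at h2
    have h3 := b.ne_zero i
    have h4 : (μ i * μ i - 1) • b i = 0 := by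
      rw [sub_smul, h2, one_smul, sub_self]
    have h5 := (smul_eq_zero.mp h4).resolve_right h3
    linear_combination h5
  obtain ⟨m, h1, h2⟩ := sum_prod_signs Finset.univ μ fun i _ => hμ i
  have hdet := det_eq_one hG ρ t
  rw [det_eq_prod b μ hb, h2] at hdet
  have hm : Even m := by
    by_contra hodd
    rw [Nat.not_even_iff_odd] at hodd
    rw [hodd.neg_one_pow] at hdet
    norm_num at hdet
  obtain ⟨m', rfl⟩ := hm
  refine ⟨m', ?_⟩
  rw [Cfsg.Agent.Lib.Char.Eigen.character_eq_sum_of_eigenbasis ρ b μ hb, h1]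
  simp only [Finset.card_univ, Fintype.card_fin, finrank_fintype_fun_eq_card]
  push_cast
  ring

/-- A primitive cube root of unity. -/
noncomputable def om : ℂ := ⟨-1 / 2, Real.sqrt 3 / 2⟩

theorem om_add : om * om + om + 1 = 0 := by
  have h3 : Real.sqrt 3 * Real.sqrt 3 = 3 := Real.mul_self_sqrt (by norm_num)
  apply Complex.ext
  · simp only [om, Complex.mul_re, Complex.add_re, Complex.one_re, Complex.zero_re]
    linear_combination -(1 / 4 : ℝ) * h3
  · simp only [om, Complex.mul_im, Complex.add_im, Complex.one_im, Complex.zero_im]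
    ring

theorem om_cube : om * om * om = 1 := by
  linear_combination (om - 1) * om_add

theorem om_ne_one : om ≠ 1 := by
  intro h
  have := congrArg Complex.re h
  simp only [om, Complex.one_re] at this
  norm_num at this

theorem conj_om : conj om = -1 - om := by
  apply Complex.ext
  · simp only [om, Complex.conj_re, Complex.sub_re, Complex.neg_re, Complex.one_re]
    ring
  · simp only [om, Complex.conj_im, Complex.sub_im, Complex.neg_im, Complex.one_im]
    ring

/-- Norm of an element of the Eisenstein integers. -/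
theorem normSq_om (x w : ℤ) : Complex.normSq ((x : ℂ) + w * om) = (x : ℝ) ^ 2 - x * w + w ^ 2 := by
  have h3 : Real.sqrt 3 * Real.sqrt 3 = 3 := Real.mul_self_sqrt (by norm_num)
  rw [Complex.normSq_apply]
  simp only [om, Complex.add_re, Complex.mul_re, Complex.intCast_re, Complex.intCast_im,
    Complex.add_im, Complex.mul_im]
  linear_combination (w : ℝ) ^ 2 / 4 * h3

theorem eq_of_om {x w x' w' : ℤ} (h : (x : ℂ) + w * om = (x' : ℂ) + w' * om) : x = x' ∧ w = w' := by
  have h3 : (0 : ℝ) < Real.sqrt 3 := Real.sqrt_pos.mpr (by norm_num)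
  have h1 := congrArg Complex.im h
  have h2 := congrArg Complex.re h
  simp only [om, Complex.add_re, Complex.mul_re, Complex.intCast_re, Complex.intCast_im,
    Complex.add_im, Complex.mul_im] at h1 h2
  have h4 : (w : ℝ) = w' := by
    have : ((w : ℝ) - w') * (Real.sqrt 3 / 2) = 0 := by linear_combination h1
    have h5 := (mul_eq_zero.mp this).resolve_right (by positivity)
    linarith
  have h5 : (x : ℝ) = x' := by
    rw [h4] at h2
    linarith
  exact ⟨by exact_mod_cast h5, by exact_mod_cast h4⟩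

/-- Sum and product of a family of cube roots of unity. -/
theorem sum_prod_cube {ι : Type*} (S : Finset ι) (μ : ι → ℂ) (h : ∀ i ∈ S, μ i ^ 3 = 1) :
    ∃ n₀ n₁ n₂ : ℕ, ∑ i ∈ S, μ i = (n₀ : ℂ) + n₁ * om + n₂ * (om * om) ∧
      (∏ i ∈ S, μ i) = om ^ (n₁ + 2 * n₂) ∧ n₀ + n₁ + n₂ = S.card := by
  classical
  induction S using Finset.induction_on with
  | empty => exact ⟨0, 0, 0, by simp, by simp, by simp⟩
  | insert a S ha ih =>
    obtain ⟨n₀, n₁, n₂, h1, h2, h3⟩ := ih fun i hi => h i (Finset.mem_insert_of_mem hi)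
    have h4 := h a (Finset.mem_insert_self _ _)
    have h5 : (μ a - 1) * (μ a - om) * (μ a - om * om) = 0 := by
      have e := om_add
      linear_combination h4 + (-μ a ^ 2 + om * μ a - om + 1) * e
    rw [Finset.sum_insert ha, Finset.prod_insert ha, Finset.card_insert_of_notMem ha, h1, h2]
    rcases mul_eq_zero.mp h5 with h6 | h6
    · rcases mul_eq_zero.mp h6 with h7 | h7
      · have h8 : μ a = 1 := by linear_combination h7
        refine ⟨n₀ + 1, n₁, n₂, ?_, ?_, by omega⟩
        · rw [h8]; push_cast; ring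
        · rw [h8, one_mul]
      · have h8 : μ a = om := by linear_combination h7
        refine ⟨n₀, n₁ + 1, n₂, ?_, ?_, by omega⟩
        · rw [h8]; push_cast; ring
        · rw [h8]; ring
    · have h8 : μ a = om * om := by linear_combination h6
      refine ⟨n₀, n₁, n₂ + 1, ?_, ?_, by omega⟩
      · rw [h8]; push_cast; ring
      · rw [h8]; ring

theorem three_dvd_of_om_pow {k : ℕ} (h : om ^ k = 1) : 3 ∣ k := by
  have hpow : ∀ m : ℕ, om ^ (3 * m) = 1 := by
    intro m
    rw [pow_mul, show om ^ 3 = om * om * om by ring, om_cube, one_pow]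
  have hk : k = 3 * (k / 3) + k % 3 := (Nat.div_add_mod k 3).symm
  rw [hk, pow_add, hpow, one_mul] at h
  have h3 : k % 3 < 3 := Nat.mod_lt _ (by norm_num)
  have hom2 : om * om ≠ 1 := by
    intro h4
    apply om_ne_one
    have := om_cube
    rw [h4, one_mul] at this
    exact this
  have h4 : k % 3 = 0 := by
    interval_cases h5 : k % 3
    · rfl
    · exfalso
      apply om_ne_one
      simpa using h
    · exfalso
      apply hom2
      rw [pow_two] at h
      exact h
  omega

/-- The value of an irreducible character at an element of order dividing three of a non-abelian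
simple group. -/
theorem order_three_value [IsSimpleGroup G] (hG : ¬ IsMulCommutative G) (j : IrrCharacter G) {y : G}
    (hy : y ^ 3 = 1) : ∃ x w : ℤ, (j : G → ℂ) y = (x : ℂ) + w * om ∧ (3 : ℤ) ∣ w ∧
      (3 : ℤ) ∣ x - (charDegree (j : G → ℂ) : ℤ) := by
  classical
  obtain ⟨n, ρ, hρ, hjρ⟩ := j.2
  have hjc : (j : G → ℂ) = ρ.character := hjρ.symm
  rw [hjc, charDegree_character]
  obtain ⟨b, μ, hb, -⟩ := Cfsg.Agent.Lib.Char.Eigen.exists_eigenbasis ρ y
  have hμ : ∀ i, μ i ^ 3 = 1 := by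
    intro i
    have h2 : (ρ y) ((ρ y) ((ρ y) (b i))) = b i := by
      rw [← Module.End.mul_apply, ← Module.End.mul_apply, ← map_mul, ← map_mul,
        show y * y * y = y ^ 3 by simp only [pow_succ, pow_zero, one_mul], hy, map_one]
      rfl
    rw [hb, map_smul, hb, map_smul, map_smul, hb, smul_smul, smul_smul] at h2
    have h3 := b.ne_zero i
    have h4 : (μ i * μ i * μ i - 1) • b i = 0 := by
      rw [sub_smul, h2, one_smul, sub_self]
    have h5 := (smul_eq_zero.mp h4).resolve_right h3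
    linear_combination h5
  obtain ⟨n₀, n₁, n₂, h1, h2, h3⟩ := sum_prod_cube Finset.univ μ fun i _ => hμ i
  have hdet := det_eq_one hG ρ y
  rw [det_eq_prod b μ hb, h2] at hdet
  have h4 := three_dvd_of_om_pow hdet
  have e := om_add
  refine ⟨(n₀ : ℤ) - n₂, (n₁ : ℤ) - n₂, ?_, ?_, ?_⟩
  · rw [Cfsg.Agent.Lib.Char.Eigen.character_eq_sum_of_eigenbasis ρ b μ hb, h1]
    push_cast
    linear_combination (n₂ : ℂ) * e
  · omega
  · simp only [Finset.card_univ, Fintype.card_fin] at h3
    omega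

/-- A non-principal irreducible character of a simple group takes no value of maximal absolute value at
a non-trivial element. -/
theorem norm_ne_degree [IsSimpleGroup G] (hG : ¬ IsMulCommutative G) [Fintype G] (j : IrrCharacter G)
    (hj : j ≠ oneIrr G) {y : G} (hy : y ≠ 1) :
    ‖(j : G → ℂ) y‖ ≠ (charDegree (j : G → ℂ) : ℝ) := by
  classical
  obtain ⟨n, ρ, hρ, hjρ⟩ := j.2
  have hjc : (j : G → ℂ) = ρ.character := hjρ.symm
  intro h
  rw [hjc, charDegree_character] at h
  obtain ⟨c, hc⟩ := (Cfsg.Agent.Lib.Char.Eigen.norm_character_eq_iff_scalar ρ y).mp h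
  have hinj : Function.Injective ρ.asGroupHom ∨ ∀ g, ρ.asGroupHom g = 1 := by
    rcases Cfsg.Agent.Lib.Small.Basic.hom_trivial_or_injective ρ.asGroupHom with h2 | h2
    · exact Or.inr h2
    · exact Or.inl h2
  rcases hinj with hinj | htriv
  · -- `y` is central
    have hcen : y ∈ Subgroup.center G := by
      rw [Subgroup.mem_center_iff]
      intro g
      apply hinj
      apply Units.ext
      simp only [map_mul, Units.val_mul, Representation.asGroupHom_apply]
      rw [hc]
      ext v i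
      simp
    have hcenter : Subgroup.center G = ⊥ ∨ Subgroup.center G = ⊤ :=
      IsSimpleGroup.eq_bot_or_eq_top_of_normal _ inferInstance
    rcases hcenter with h3 | h3
    · rw [h3, Subgroup.mem_bot] at hcen
      exact hy hcen
    · apply hG
      refine ⟨⟨fun a b => ?_⟩⟩
      have ha : a ∈ Subgroup.center G := by rw [h3]; trivial
      exact (Subgroup.mem_center_iff.mp ha b).symm
  · have h1 : ρ y = 1 := by
      have := congrArg Units.val (htriv y)
      simpa [Representation.asGroupHom_apply] using this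
    apply hj
    apply Cfsg.Agent.Lib.ExcP.Invol.eq_one_of_value_eq j hy
    rw [hjc]
    have h5 : ρ.character y = ρ.character 1 := by
      show LinearMap.trace ℂ _ (ρ y) = LinearMap.trace ℂ _ (ρ 1)
      rw [h1, (map_one ρ)]
    exact h5

/-- Characters of `p`-defect zero vanish on `p`-singular elements. -/
theorem value_eq_zero_of_defect_zero (j : IrrCharacter G) {p n : ℕ} (hp : p.Prime)
    (hn : p ^ n ∣ Nat.card G) (hn' : ¬ p ^ (n + 1) ∣ Nat.card G)
    (hdeg : p ^ n ∣ charDegree (j : G → ℂ)) {x : G} (hx : p ∣ orderOf x) : (j : G → ℂ) x = 0 := by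
  classical
  obtain ⟨n', ρ, hρ, hjρ⟩ := j.2
  have hjc : (j : G → ℂ) = ρ.character := hjρ.symm
  rw [hjc] at hdeg ⊢
  rw [charDegree_character] at hdeg
  haveI : ρ.IsIrreducible := hρ
  exact Cfsg.Agent.Lib.Char.DefectZero.character_eq_zero_of_defect_zero ρ p n hp hn hn' hdeg x hx

/-- The central character value is an algebraic integer. -/
theorem isIntegral_central (j : IrrCharacter G) (g : G) :
    IsIntegral ℤ (((Subgroup.centralizer ({g} : Set G)).index : ℂ) * (j : G → ℂ) g /
      (charDegree (j : G → ℂ) : ℂ)) := by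
  classical
  obtain ⟨n', ρ, hρ, hjρ⟩ := j.2
  have hjc : (j : G → ℂ) = ρ.character := hjρ.symm
  rw [hjc, charDegree_character]
  haveI : ρ.IsIrreducible := hρ
  exact Cfsg.Agent.Lib.Char.Central.index_mul_character_div_isIntegral ρ g

/-- An integer quotient that is an algebraic integer gives divisibility. -/
theorem int_dvd_of_isIntegral_div {a : ℤ} {b : ℕ} (hb : b ≠ 0)
    (h : IsIntegral ℤ ((a : ℂ) / (b : ℂ))) : (b : ℤ) ∣ a := by
  have h1 : IsIntegral ℤ ((a : ℚ) / (b : ℚ)) := by
    have hinj : Function.Injective (algebraMap ℚ ℂ) := (algebraMap ℚ ℂ).injective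
    rw [← isIntegral_algebraMap_iff hinj]
    simpa using h
  obtain ⟨z, hz⟩ := IsIntegrallyClosed.isIntegral_iff.mp h1
  have hb' : (b : ℚ) ≠ 0 := by exact_mod_cast hb
  refine ⟨z, ?_⟩
  have h2 : (a : ℚ) = (b : ℚ) * (z : ℚ) := by
    have hz' : (z : ℚ) = (a : ℚ) / (b : ℚ) := by simpa using hz
    rw [hz']
    field_simp
  exact_mod_cast h2

/-- The degree divides `|cl g| · χ(g)` when the value is an integer. -/
theorem deg_dvd_of_int_value (j : IrrCharacter G) (g : G) {v : ℤ} (hv : (j : G → ℂ) g = v) :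
    (charDegree (j : G → ℂ) : ℤ) ∣ (Subgroup.centralizer ({g} : Set G)).index * v := by
  classical
  have h1 := isIntegral_central j g
  rw [hv] at h1
  have hd : charDegree (j : G → ℂ) ≠ 0 := (charDegree_pos j.2).ne'
  apply int_dvd_of_isIntegral_div hd
  convert h1 using 1
  push_cast
  rfl

end Rep

end Cfsg.Agent.Lib.Ord7920.Values
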